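import Cfsg.Agent.Lib.CyclicSylowInter.Central.Order
import Cfsg.Agent.Lib.Transfer.Fusion

/-!
# The centraliser modulo its odd core is `C₂ × A₅`
-/

set_option autoImplicit false
set_option linter.style.haveILetI false
set_option linter.unusedSectionVars false

namespace Cfsg.Agent.CyclicSylowInter.Central

open Subgroup
open scoped Pointwise
open Cfsg.Agent.ZStar.CyclicIntersections

universe u

attribute [local instance] Comp.grp Comp.fin

variable {G : Type u} [Group G] [Finite G] {S : Sylow 2 G} {t : G}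

theorem mult_two {p q a : Multiplicative (ZMod 2)} (hq : q ≠ 1) (hp : ¬ p = a) : p * q = a := by
  revert hq hp; revert p q a; decide

variable (hG : Reduced G) (d : Comp S t) (hc : ∀ s ∈ (S : Subgroup G), Commute t s)
include hG d hc

/-- A homomorphism of the centraliser onto a group of order two, nontrivial at `t`. -/
theorem exists_sign : ∃ ψ : ↥(cen t) →* Multiplicative (ZMod 2),
    ψ ⟨t, le_cen hc d.htS⟩ ≠ 1 := by
  haveI := Fact.mk Nat.prime_two
  have ht1 : t ≠ 1 := orderOf_eq_one_iff.not.1 (by rw [d.ht]; norm_num)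
  obtain ⟨ξ, hξt, hξ⟩ := exists_functional (centInv S) (fun a ha => centInv_sq ha) (t_mem d hc) ht1
  set H := (S : Subgroup G).subgroupOf (cen t) with hH
  have hmem : ∀ x : H, ((x : ↥(cen t)) : G) ∈ centInv S := fun x => S_eq hG d hc ▸ x.2
  let φ : H →* Multiplicative (ZMod 2) :=
    MonoidHom.mk' (fun x => Multiplicative.ofAdd (ξ ((x : ↥(cen t)) : G)))
      fun x y => congrArg Multiplicative.ofAdd (hξ _ (hmem x) _ (hmem y))
  refine ⟨MonoidHom.transfer φ, ?_⟩
  set τ : ↥(cen t) := ⟨t, le_cen hc d.htS⟩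
  have hτc : ∀ g : ↥(cen t), Commute τ g := fun g => Subtype.ext (mem_cent.1 g.2).symm.eq
  have key : ∀ (k : ℕ) (g₀ : ↥(cen t)), g₀⁻¹ * τ ^ k * g₀ ∈ H → g₀⁻¹ * τ ^ k * g₀ = τ ^ k :=
    fun k g₀ _ => by rw [mul_assoc, ((hτc g₀).pow_left k).eq, inv_mul_cancel_left]
  rw [MonoidHom.transfer_eq_pow φ τ key]
  have hidx : Odd H.index := by
    obtain ⟨P, hP⟩ := d.sylow
    rw [hH, ← hP, Nat.odd_iff, ← Nat.two_dvd_ne_zero]
    exact P.not_dvd_index
  intro h
  have h' : ξ ((τ ^ H.index : ↥(cen t)) : G) = 0 := congrArg Multiplicative.toAdd h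
  have hpow : (τ ^ H.index : ↥(cen t)) = τ := by
    obtain ⟨j, hj⟩ := hidx
    rw [hj, pow_succ, pow_mul, show τ ^ 2 = 1 from
      Subtype.ext (by rw [SubgroupClass.coe_pow, pow_two]; exact centInv_sq (t_mem d hc)),
      one_pow, one_mul]
  rw [hpow, hξt] at h'
  exact one_ne_zero h'

/-- An involution in the preimage of an odd normal subgroup, killed by the sign, is trivial. -/
theorem preimage_odd_le {ψ : ↥(cen t) →* Multiplicative (ZMod 2)}
    (hψ : ψ ⟨t, le_cen hc d.htS⟩ ≠ 1) (K : Subgroup d.Q) (hK : K.Normal)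
    (hodd : Odd (Nat.card K)) : K.comap d.π ⊓ ψ.ker ≤ Cfsg.oddCore ↥(cen t) := by
  haveI := Fact.mk Nat.prime_two
  set Y := K.comap d.π ⊓ ψ.ker
  have hY : Odd (Nat.card Y) := by
    rw [Nat.odd_iff, ← Nat.two_dvd_ne_zero]
    intro h2
    obtain ⟨y, hy⟩ := exists_prime_orderOf_dvd_card' (G := Y) 2 h2
    obtain ⟨hyK, hyψ⟩ := y.2
    have hy2 : (y : ↥(cen t)) * y = 1 := by
      rw [← pow_two, ← Subgroup.coe_pow, ← hy, pow_orderOf_eq_one]; rfl
    have hπ1 : d.π (y : ↥(cen t)) = 1 := by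
      set z : K := ⟨d.π (y : ↥(cen t)), hyK⟩ with hz
      have h : z ^ 2 = 1 := Subtype.ext (by
        rw [SubgroupClass.coe_pow, pow_two]
        show d.π _ * d.π _ = 1
        rw [← map_mul, hy2, map_one])
      have h1 : orderOf z = 1 := Nat.eq_one_of_dvd_coprimes (Nat.coprime_two_left.2 hodd)
        (orderOf_dvd_of_pow_eq_one h) (orderOf_dvd_natCard z)
      exact congrArg Subtype.val (orderOf_eq_one_iff.1 h1)
    obtain ⟨v, hv, hvS, o, ho, e⟩ := d.ker_mem _ (MonoidHom.mem_ker.2 hπ1)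
    have ho1 : o = 1 := by
      refine eq_one_of_core ho (k := 1) ?_
      have hv2 : v * v = 1 := Subtype.ext (sq_S hG d hc hvS)
      have h := hy2
      rw [e, (d.core_comm o ho v hvS).mul_mul_mul_comm, hv2, one_mul] at h
      rw [pow_one, pow_two]; exact h
    rw [ho1, mul_one] at e
    rcases eq_or_eq_of_mem_ker hG d hc hvS hv with h | h
    · have : (y : Y) = 1 := Subtype.ext (e.trans (Subtype.ext h))
      rw [this, orderOf_one] at hy
      omega
    · exact hψ (by rw [← show (y : ↥(cen t)) = ⟨t, le_cen hc d.htS⟩ from e.trans (Subtype.ext h)]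
                   exact hyψ)
  haveI := hK
  exact Agent.Cores.le_pPrimeCore (N := Y) (Nat.coprime_two_right.2 hY)

/-- The centraliser modulo its core, and the centraliser of `S` in it. -/
theorem exists_alt : ∃ e : ↥(cen t) →* Multiplicative (ZMod 2) × alternatingGroup (Fin 5),
    Function.Surjective e ∧ e.ker = Cfsg.oddCore ↥(cen t) ∧
    ∀ c : ↥(cen t), (∀ s ∈ (S : Subgroup G), Commute (c : G) s) →
      ∃ p : ↥(cen t), (p : G) ∈ (S : Subgroup G) ∧
        ∃ o ∈ Cfsg.oddCore ↥(cen t), c = p * o := by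
  classical
  haveI := Fact.mk Nat.prime_two
  obtain ⟨ψ, hψ⟩ := exists_sign hG d hc
  set τ : ↥(cen t) := ⟨t, le_cen hc d.htS⟩
  obtain ⟨P, hP⟩ := d.sylow
  let SQ : Sylow 2 d.Q := P.mapSurjective d.surj
  have hSQ : (SQ : Subgroup d.Q) = trace d := by
    rw [Sylow.coe_mapSurjective, hP]; rfl
  have hSQL : (SQ : Subgroup d.Q) ≤ d.L := by
    rw [hSQ, trace_eq]; exact map_subtype_le _
  have hcard4 : Nat.card ↥(SQ : Subgroup d.Q) = 4 := by
    rw [hSQ, trace_eq, card_subtype, d.data.card_sylow, n_eq hG d hc, i_eq hG d hc]; norm_num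
  haveI := d.normal
  have hTL : ∀ T : Sylow 2 d.Q, (T : Subgroup d.Q) ≤ d.L := by
    intro T x hx
    obtain ⟨g, rfl⟩ := MulAction.exists_smul_eq d.Q SQ T
    have h := d.normal.conj_mem _ (hSQL (mem_smul.1 hx)) g
    simpa [mul_assoc] using h
  let res : Sylow 2 d.Q → Sylow 2 ↥d.L := fun T => T.subtype (hTL T)
  have hres_mem : ∀ (T : Sylow 2 d.Q) (a : ↥d.L),
      a ∈ (res T : Subgroup ↥d.L) ↔ (a : d.Q) ∈ (T : Subgroup d.Q) := fun T a => Iff.rfl
  have hres_inj : Function.Injective res := by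
    intro T T' h
    apply Sylow.ext
    ext x
    constructor
    · intro hx
      have h1 := (hres_mem T ⟨x, hTL T hx⟩).2 hx
      rw [h] at h1
      exact (hres_mem T' _).1 h1
    · intro hx
      have h1 := (hres_mem T' ⟨x, hTL T' hx⟩).2 hx
      rw [← h] at h1
      exact (hres_mem T _).1 h1
  have hresS : res SQ = d.SL := by
    apply Sylow.ext
    ext a
    rw [hres_mem, hSQ, trace_eq]
    exact ⟨fun ⟨b, hb, e⟩ => Subtype.ext e ▸ hb, fun h => mem_map_of_mem _ h⟩
  have hres_smul : ∀ (s : ↥d.L) (T : Sylow 2 d.Q), res ((s : d.Q) • T) = s • res T := by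
    intro s T
    apply Sylow.ext
    ext a
    rw [hres_mem, mem_smul, mem_smul, hres_mem]
    rfl
  -- the other Sylow subgroups are a regular orbit
  have hregQ : ∀ T T' : Sylow 2 d.Q, T ≠ SQ → T' ≠ SQ →
      ∃! s : ↥(SQ : Subgroup d.Q), (s : d.Q) • T = T' := by
    intro T T' hT hT'
    obtain ⟨s, hs, huniq⟩ := d.data.regular (res T) (res T')
      (fun h => hT (hres_inj (h.trans hresS.symm))) (fun h => hT' (hres_inj (h.trans hresS.symm)))
    have hsQ : ((s : ↥d.L) : d.Q) ∈ (SQ : Subgroup d.Q) :=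
      (hres_mem SQ s).1 (hresS.symm ▸ s.2)
    refine ⟨⟨_, hsQ⟩, hres_inj ((hres_smul s T).trans hs), ?_⟩
    rintro ⟨s', hs'⟩ he
    have hm : (⟨s', hSQL hs'⟩ : ↥d.L) ∈ (d.SL : Subgroup ↥d.L) := hresS ▸ hs'
    have h1 := huniq ⟨_, hm⟩ (by
      show (⟨s', hSQL hs'⟩ : ↥d.L) • res T = res T'
      rw [← hres_smul]
      exact congrArg res he)
    exact Subtype.ext (congrArg (fun z : ↥(d.SL : Subgroup ↥d.L) => ((z : ↥d.L) : d.Q)) h1)
  -- there is another Sylow subgroup
  obtain ⟨T₀, hT₀⟩ : ∃ T : Sylow 2 d.Q, T ≠ SQ := by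
    by_contra! hall
    haveI : (SQ : Subgroup d.Q).Normal := by
      rw [← normalizer_eq_top_iff, eq_top_iff]
      exact fun g _ => Sylow.smul_eq_iff_mem_normalizer.1 (hall _)
    have hQs : Group.IsSolvable d.Q := isSolvable_ext (SQ : Subgroup d.Q)
      (isSolvable_isPGroup SQ.isPGroup')
      (S0205.result (by
        rw [← index_eq_card, Nat.odd_iff, ← Nat.two_dvd_ne_zero]; exact SQ.not_dvd_index))
    refine d.nonsolvable (isSolvable_ext (Cfsg.oddCore ↥(cen t)) isSolvable_oddCore ?_)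
    haveI := hQs
    let π' : ↥(cen t) ⧸ Cfsg.oddCore ↥(cen t) →* d.Q := QuotientGroup.lift _ d.π d.core_le
    haveI : Group.IsSolvable ↥π'.ker := by
      refine Group.isSolvable_of_comm fun a b => Subtype.ext ?_
      obtain ⟨a', ha'⟩ := QuotientGroup.mk_surjective (a : ↥(cen t) ⧸ Cfsg.oddCore ↥(cen t))
      obtain ⟨b', hb'⟩ := QuotientGroup.mk_surjective (b : ↥(cen t) ⧸ Cfsg.oddCore ↥(cen t))
      have key : ∀ c : ↥(cen t), d.π c = 1 → (c : ↥(cen t) ⧸ Cfsg.oddCore ↥(cen t)) = 1 ∨
          (c : ↥(cen t) ⧸ Cfsg.oddCore ↥(cen t)) = (τ : ↥(cen t) ⧸ Cfsg.oddCore ↥(cen t)) := by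
        intro c hcπ
        obtain ⟨v, hv, hvS, o, ho, rfl⟩ := d.ker_mem c hcπ
        rw [QuotientGroup.mk_mul, (QuotientGroup.eq_one_iff o).2 ho, mul_one]
        rcases eq_or_eq_of_mem_ker hG d hc hvS hv with h | h
        · exact Or.inl (congrArg _ (Subtype.ext h : v = 1))
        · exact Or.inr (congrArg _ (Subtype.ext h : v = τ))
      have ka := key a' (show π' a' = 1 from ha' ▸ a.2)
      have kb := key b' (show π' b' = 1 from hb' ▸ b.2)
      rw [ha'] at ka
      rw [hb'] at kb
      show (a : ↥(cen t) ⧸ Cfsg.oddCore ↥(cen t)) * b = b * a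
      rcases ka with ka | ka <;> rcases kb with kb | kb <;> simp [ka, kb]
    exact isSolvable_ext π'.ker inferInstance (Group.isSolvable_of_surjective
      (f := (QuotientGroup.quotientKerEquivOfSurjective π'
        (QuotientGroup.lift_surjective_of_surjective _ _ d.surj d.core_le)).symm.toMonoidHom)
      (MulEquiv.surjective _))
  -- five Sylow subgroups
  have h5 : Nat.card (Sylow 2 d.Q) = 5 := by
    let g : Option ↥(SQ : Subgroup d.Q) → Sylow 2 d.Q :=
      fun o => o.elim SQ fun s => (s : d.Q) • T₀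
    have hne : ∀ s : ↥(SQ : Subgroup d.Q), (s : d.Q) • T₀ ≠ SQ := fun s h => hT₀ (by
      have h1 : (s : d.Q) • SQ = SQ :=
        Sylow.smul_eq_iff_mem_normalizer.2 (le_normalizer s.2)
      exact smul_left_cancel (s : d.Q) (h.trans h1.symm))
    have hg : Function.Bijective g := by
      constructor
      · rintro (_ | s) (_ | s') h
        · rfl
        · exact absurd h.symm (hne s')
        · exact absurd h (hne s)
        · obtain ⟨r, -, hu⟩ := hregQ T₀ _ hT₀ (hne s')
          rw [hu s h, hu s' rfl]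
      · intro T
        by_cases hT : T = SQ
        · exact ⟨none, hT.symm⟩
        · obtain ⟨s, hs, -⟩ := hregQ T₀ T hT₀ hT
          exact ⟨some s, hs⟩
    rw [← Nat.card_eq_of_bijective g hg, Finite.card_option, hcard4]
  -- the action on them
  let ρ := MulAction.toPermHom d.Q (Sylow 2 d.Q)
  have hρinj : Function.Injective ρ := by
    rw [← MonoidHom.ker_eq_bot_iff]
    set K := ρ.ker
    have hfix : ∀ k ∈ K, ∀ T : Sylow 2 d.Q, k • T = T := fun k hk T =>
      congrArg (fun σ : Equiv.Perm (Sylow 2 d.Q) => σ T) (MonoidHom.mem_ker.1 hk)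
    have hKodd : Odd (Nat.card K) := by
      rw [Nat.odd_iff, ← Nat.two_dvd_ne_zero]
      intro h2
      obtain ⟨k, hk⟩ := exists_prime_orderOf_dvd_card' (G := K) 2 h2
      obtain ⟨T, hkT⟩ := exists_sylow_mem (u := (k : d.Q)) (by rw [Subgroup.orderOf_coe, hk])
      obtain ⟨g, rfl⟩ := MulAction.exists_smul_eq d.Q SQ T
      have h1 : g⁻¹ * (k : d.Q) * g ∈ (SQ : Subgroup d.Q) := mem_smul.1 hkT
      have h2' : g⁻¹ * (k : d.Q) * g ∈ K := by
        have := (inferInstance : K.Normal).conj_mem _ k.2 g⁻¹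
        rwa [inv_inv] at this
      obtain ⟨r, -, hu⟩ := hregQ T₀ T₀ hT₀ hT₀
      have e1 := hu ⟨_, h1⟩ (hfix _ h2' T₀)
      have e2 := hu 1 (one_smul _ _)
      have e3 : g⁻¹ * (k : d.Q) * g = 1 := congrArg Subtype.val (e1.trans e2.symm)
      have e4 : (k : d.Q) = 1 := by
        have : (k : d.Q) = g * (g⁻¹ * (k : d.Q) * g) * g⁻¹ := by group
        rw [this, e3]; group
      rw [show k = 1 from Subtype.ext e4, orderOf_one] at hk
      omega
    rw [eq_bot_iff]
    intro k hk
    obtain ⟨c, rfl⟩ := d.surj k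
    have hτπ : d.π τ = 1 := d.mem_ker_self _
    have hmem : c ∈ K.comap d.π ⊓ ψ.ker ∨ c * τ ∈ K.comap d.π ⊓ ψ.ker := by
      by_cases h : ψ c = 1
      · exact Or.inl ⟨hk, h⟩
      · refine Or.inr ⟨?_, ?_⟩
        · show d.π (c * τ) ∈ K; rw [map_mul, hτπ, mul_one]; exact hk
        · show ψ (c * τ) = 1
          rw [map_mul]
          exact mult_two hψ h
    rw [mem_bot]
    rcases hmem with h | h
    · exact MonoidHom.mem_ker.1 (d.core_le (preimage_odd_le hG d hc hψ K inferInstance hKodd h))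
    · have := MonoidHom.mem_ker.1 (d.core_le (preimage_odd_le hG d hc hψ K inferInstance hKodd h))
      rwa [map_mul, hτπ, mul_one] at this
  -- order sixty
  let ε : Equiv.Perm (Sylow 2 d.Q) ≃* Equiv.Perm (Fin 5) :=
    Equiv.permCongrHom ((Finite.equivFin _).trans (finCongr h5))
  let α : d.Q →* Equiv.Perm (Fin 5) := ε.toMonoidHom.comp ρ
  have hα : Function.Injective α := ε.injective.comp hρinj
  have hdvd : Nat.card d.Q ∣ 120 := by
    have h := Subgroup.card_dvd_of_injective α hα
    rwa [Nat.card_eq_fintype_card (α := Equiv.Perm (Fin 5)), Fintype.card_perm, Fintype.card_fin] at h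
  have h4dvd : 4 ∣ Nat.card d.Q := hcard4 ▸ (SQ : Subgroup d.Q).card_subgroup_dvd_card
  have h8dvd : ¬ 8 ∣ Nat.card d.Q := by
    intro h
    have h1 := (SQ : Subgroup d.Q).card_mul_index
    rw [hcard4] at h1
    refine SQ.not_dvd_index ?_
    rw [← h1] at h
    exact (Nat.mul_dvd_mul_iff_left (show 0 < 4 by norm_num)).1 (show 4 * 2 ∣ _ from h)
  have h5dvd : 5 ∣ Nat.card d.Q := by
    rw [← h5, SQ.card_eq_index_normalizer]
    exact index_dvd_card _
  have h60 : Nat.card d.Q = 60 := by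
    have h20 : Nat.card d.Q ≠ 20 := by
      intro h20
      let N := normalizer ((SQ : Subgroup d.Q) : Set d.Q)
      have hN4 : Nat.card N = 4 := by
        have h1 : Nat.card N * (normalizer (SQ : Set d.Q)).index = _ := N.card_mul_index
        rw [← SQ.card_eq_index_normalizer, h5, h20] at h1
        omega
      have hNeq : (SQ : Subgroup d.Q) = N :=
        Subgroup.eq_of_le_of_card_ge le_normalizer (by rw [hN4, hcard4])
      obtain ⟨n, hn, hne⟩ := hG.exists_moved S d.ht d.htS hc
      obtain ⟨c, hcN, hct, x, hx, hxne⟩ := exists_mover hG d hc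
      let c' : ↥(cen t) := ⟨c, mem_cent.2 hct⟩
      let x' : ↥(cen t) := ⟨x, le_cen hc hx⟩
      have hcQ : d.π c' ∈ (SQ : Subgroup d.Q) := by
        rw [hNeq]
        refine Sylow.smul_eq_iff_mem_normalizer.1 ?_
        apply Sylow.ext
        ext y
        rw [mem_smul, hSQ]
        have key : ∀ g : ↥(cen t), (g : G) ∈ normalizer ((S : Subgroup G) : Set G) →
            ∀ z ∈ trace d, d.π g * z * (d.π g)⁻¹ ∈ trace d := by
          rintro g hg _ ⟨p, hp, rfl⟩
          rw [← map_inv, ← map_mul, ← map_mul]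
          exact mem_map_of_mem _ (show (g : G) * p * (g : G)⁻¹ ∈ (S : Subgroup G) from
            (mem_normalizer_iff.1 hg _).1 hp)
        constructor
        · intro hy
          have h := key c' hcN _ hy
          simpa [mul_assoc] using h
        · intro hy
          have h := key c'⁻¹ (inv_mem hcN) _ hy
          simpa [mul_assoc] using h
      rw [hSQ] at hcQ
      obtain ⟨p, hp, hpc⟩ := hcQ
      have hπ : d.π (c' * x' * c'⁻¹) = d.π x' := by
        rw [map_mul, map_mul, map_inv, ← hpc, ← map_mul, ← map_inv, ← map_mul]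
        congr 1
        apply Subtype.ext
        show (p : G) * x * (p : G)⁻¹ = x
        rw [(show Commute (p : G) x from comm_S hG d hc hp hx).eq, mul_inv_cancel_right]
      have hyS : c * x * c⁻¹ ∈ (S : Subgroup G) := (mem_normalizer_iff.1 hcN x).1 hx
      have hprod : c * x * c⁻¹ * x ∈ (S : Subgroup G) := mul_mem hyS hx
      have h1 : d.π ⟨c * x * c⁻¹ * x, le_cen hc hprod⟩ = 1 := by
        rw [show (⟨c * x * c⁻¹ * x, le_cen hc hprod⟩ : ↥(cen t)) = c' * x' * c'⁻¹ * x' from rfl,
          map_mul, hπ, ← map_mul, show x' * x' = 1 from Subtype.ext (sq_S hG d hc hx), map_one]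
      rcases eq_or_eq_of_mem_ker hG d hc hprod h1 with h | h
      · exact hxne (by rw [← mul_one (c * x * c⁻¹), ← sq_S hG d hc hx, ← mul_assoc, h, one_mul])
      · -- `x` would be carried to `t * x`, but then twice to itself
        have hxW : x ∈ centInv S := S_eq hG d hc ▸ hx
        obtain ⟨f, hft, hfadd, hinv, -, -⟩ := exists_frame hG d hc
        have h2 : c * x * c⁻¹ = t * x := by
          rw [← h, mul_assoc (c * x * c⁻¹), sq_S hG d hc hx, mul_one]
        have h3 := hinv c hcN hct x hxW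
        rw [h2, hfadd t (t_mem d hc) x hxW, hft] at h3
        simp at h3
    obtain ⟨k, hk⟩ : 20 ∣ Nat.card d.Q :=
      (show Nat.Coprime 4 5 by norm_num).mul_dvd_of_dvd_of_dvd h4dvd h5dvd
    have hk6 : k ∣ 6 := by
      rw [hk] at hdvd
      exact (Nat.mul_dvd_mul_iff_left (show 0 < 20 by norm_num)).1 (show 20 * k ∣ 20 * 6 from hdvd)
    have := Nat.le_of_dvd (by norm_num) hk6
    interval_cases k <;> omega
  have hrange : α.range = alternatingGroup (Fin 5) := by
    refine Equiv.Perm.eq_alternatingGroup_of_index_eq_two ?_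
    have h1 := α.range.card_mul_index
    rw [← Nat.card_congr (MonoidHom.ofInjective hα).toEquiv, h60,
      Nat.card_eq_fintype_card (α := Equiv.Perm (Fin 5)), Fintype.card_perm, Fintype.card_fin] at h1
    simp [Nat.factorial] at h1
    omega
  let β : d.Q →* alternatingGroup (Fin 5) :=
    α.codRestrict _ fun q => hrange ▸ MonoidHom.mem_range.2 ⟨q, rfl⟩
  have hβs : Function.Surjective β := fun a => by
    obtain ⟨q, hq⟩ := MonoidHom.mem_range.1 (hrange.symm ▸ a.2 : (a : Equiv.Perm (Fin 5)) ∈ α.range)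
    exact ⟨q, Subtype.ext hq⟩
  have hβi : Function.Injective β := fun a b h => hα (congrArg Subtype.val h)
  refine ⟨ψ.prod (β.comp d.π), ?_, ?_, ?_⟩
  · rintro ⟨a, b⟩
    obtain ⟨q, rfl⟩ := hβs b
    obtain ⟨c, rfl⟩ := d.surj q
    by_cases h : ψ c = a
    · exact ⟨c, Prod.ext h rfl⟩
    · refine ⟨c * τ, Prod.ext ?_ ?_⟩
      · show ψ (c * τ) = a
        rw [map_mul]
        exact mult_two hψ h
      · show β (d.π (c * τ)) = β (d.π c)
        rw [map_mul, show d.π τ = 1 from d.mem_ker_self _, mul_one]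
  · refine le_antisymm ?_ ?_
    · intro c hcx
      rw [MonoidHom.mem_ker] at hcx
      have h1 : ψ c = 1 := congrArg Prod.fst hcx
      have h2 : d.π c = 1 := hβi ((congrArg Prod.snd hcx).trans (map_one β).symm)
      refine preimage_odd_le hG d hc hψ ⊥ inferInstance (by simp) ⟨?_, h1⟩
      show d.π c ∈ (⊥ : Subgroup d.Q)
      rw [h2]
      exact one_mem _
    · intro o ho
      rw [MonoidHom.mem_ker]
      refine Prod.ext ?_ ?_
      · show ψ o = 1
        rw [← orderOf_eq_one_iff]
        refine Nat.eq_one_of_dvd_coprimes (Nat.coprime_two_left.2 (odd_core (t := t))) ?_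
          ((orderOf_map_dvd ψ o).trans ((Subgroup.orderOf_mk o ho).symm ▸ orderOf_dvd_natCard _))
        exact (orderOf_dvd_natCard (ψ o)).trans (by simp [Nat.card_eq_fintype_card])
      · show β (d.π o) = 1
        rw [MonoidHom.mem_ker.1 (d.core_le ho), map_one]
  · intro c hcS
    -- an element centralising the trace acts on the other Sylow subgroups as an element of it
    have hcomm : ∀ u ∈ (SQ : Subgroup d.Q), Commute (d.π c) u := by
      rw [hSQ]
      rintro _ ⟨p, hp, rfl⟩
      exact (show Commute c p from Subtype.ext (hcS p hp).eq).map d.π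
    have hfixS : d.π c • SQ = SQ := by
      apply Sylow.ext
      ext y
      rw [mem_smul]
      constructor
      · intro hy
        have e := (hcomm _ hy).eq
        have : y = d.π c * ((d.π c)⁻¹ * y * d.π c) * (d.π c)⁻¹ := by group
        rw [this, e, mul_inv_cancel_right]
        exact hy
      · intro hy
        rw [mul_assoc, ← (hcomm _ hy).eq, inv_mul_cancel_left]
        exact hy
    have hne : d.π c • T₀ ≠ SQ := fun h => hT₀ (smul_left_cancel (d.π c) (h.trans hfixS.symm))
    obtain ⟨s, hs, -⟩ := hregQ T₀ _ hT₀ hne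
    have hsame : d.π c = (s : d.Q) := by
      apply hρinj
      refine Equiv.ext fun T => ?_
      show d.π c • T = (s : d.Q) • T
      by_cases hT : T = SQ
      · rw [hT, hfixS]
        exact (Sylow.smul_eq_iff_mem_normalizer.2 (le_normalizer s.2)).symm
      · obtain ⟨u, rfl, -⟩ := hregQ T₀ T hT₀ hT
        rw [smul_smul, (hcomm _ u.2).eq, ← smul_smul, ← hs, smul_smul, smul_smul]
        congr 1
        have hu : (u : d.Q) ∈ trace d := hSQ ▸ u.2
        have hs' : (s : d.Q) ∈ trace d := hSQ ▸ s.2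
        obtain ⟨a, ha, hau⟩ := hu
        obtain ⟨b, hb, hbs⟩ := hs'
        rw [← hau, ← hbs, ← map_mul, ← map_mul]
        congr 1
        exact Subtype.ext (comm_S hG d hc ha hb).eq
    obtain ⟨p, hp, -, o, ho, e⟩ := exists_of_trace d (c := c) (by rw [hsame, ← hSQ]; exact s.2)
    exact ⟨p, hp, o, ho, e⟩

end Cfsg.Agent.CyclicSylowInter.Central
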