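import Cfsg.Agent.Lib.CyclicSylowInter.Setup

/-!
# A central involution with nonsolvable centraliser: lifting and the trace of `S`
-/

set_option autoImplicit false
set_option linter.style.haveILetI false
set_option linter.unusedSectionVars false

namespace Cfsg.Agent.CyclicSylowInter.Central

open Subgroup
open scoped Pointwise
open Cfsg.Agent.ZStar.CyclicIntersections

universe u

attribute [local instance] Comp.grp Comp.fin

variable {G : Type u} [Group G] [Finite G] {S : Sylow 2 G} {t : G} (d : Comp S t)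
  (hc : ∀ s ∈ (S : Subgroup G), Commute t s)

include hc in
theorem le_cen : (S : Subgroup G) ≤ cen t := fun s hs => mem_cent.2 (hc s hs).symm

include d hc in
theorem t_mem : t ∈ centInv S := ⟨d.htS, mul_self_of_orderOf d.ht, hc⟩

/-- The image of `S` in the reduced quotient. -/
def trace : Subgroup d.Q := ((S : Subgroup G).subgroupOf (cen t)).map d.π

theorem trace_eq : trace d = (d.SL : Subgroup ↥d.L).map d.L.subtype := d.map_eq

include hc in
theorem pi_mem_trace {x : G} (hx : x ∈ (S : Subgroup G)) :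
    d.π ⟨x, le_cen hc hx⟩ ∈ trace d := mem_map_of_mem _ (show _ ∈ _ from hx)

/-- An element over the trace is a product of an element of `S` and an element of the core. -/
theorem exists_of_trace {c : ↥(cen t)} (h : d.π c ∈ trace d) :
    ∃ p : ↥(cen t), (p : G) ∈ (S : Subgroup G) ∧ d.π p = d.π c ∧
      ∃ o ∈ Cfsg.oddCore ↥(cen t), c = p * o := by
  obtain ⟨p, hp, hpc⟩ := h
  obtain ⟨v, hv, hvS, o, ho, e⟩ := d.ker_mem (p⁻¹ * c)
    (by rw [MonoidHom.mem_ker, map_mul, map_inv, hpc, inv_mul_cancel])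
  refine ⟨p * v, mul_mem (show _ ∈ (S : Subgroup G) from hp) hvS, ?_, o, ho, ?_⟩
  · rw [map_mul, MonoidHom.mem_ker.1 hv, mul_one, hpc]
  · rw [mul_assoc, ← e, mul_inv_cancel_left]

theorem odd_core : Odd (Nat.card ↥(Cfsg.oddCore ↥(cen t))) :=
  Nat.coprime_two_right.1 (Agent.Cores.pPrimeCore_card_coprime 2)

/-- An element of `core`, power of two order, is trivial. -/
theorem eq_one_of_core {o : ↥(cen t)} (ho : o ∈ Cfsg.oddCore ↥(cen t)) {k : ℕ}
    (h : o ^ (2 ^ k) = 1) : o = 1 := by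
  have h1 : orderOf o ∣ 2 ^ k := orderOf_dvd_of_pow_eq_one h
  have h2 : Odd (orderOf o) := (odd_core (t := t)).of_dvd_nat (by
    rw [← Subgroup.orderOf_mk o ho]; exact orderOf_dvd_natCard _)
  have h3 : Nat.Coprime (orderOf o) (2 ^ k) := (Nat.coprime_two_right.2 h2).pow_right k
  exact orderOf_eq_one_iff.1 (h3.eq_one_of_dvd h1)

include hc in
/-- Preimages of the normalizer of the trace normalise `S`. -/
theorem mem_normalizer_of_trace {r : ↥(cen t)} (hr : d.π r ∈ normalizer (trace d : Set d.Q)) :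
    (r : G) ∈ normalizer ((S : Subgroup G) : Set G) := by
  haveI := Fact.mk Nat.prime_two
  have key : ∀ x ∈ (S : Subgroup G), (r : G) * x * (r : G)⁻¹ ∈ (S : Subgroup G) := by
    intro x hx
    set c : ↥(cen t) := r * ⟨x, le_cen hc hx⟩ * r⁻¹ with hcdef
    have h1 : d.π c ∈ trace d := by
      rw [hcdef, map_mul, map_mul, map_inv]
      exact (mem_normalizer_iff.1 hr _).1 (pi_mem_trace d hc hx)
    obtain ⟨p, hpS, -, o, ho, e⟩ := exists_of_trace d h1
    obtain ⟨k, hk⟩ := S.isPGroup' ⟨x, hx⟩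
    obtain ⟨j, hj⟩ := S.isPGroup' ⟨p, hpS⟩
    have hk' : (⟨x, le_cen hc hx⟩ : ↥(cen t)) ^ (2 ^ (k + j)) = 1 := by
      rw [pow_add, pow_mul, show (⟨x, le_cen hc hx⟩ : ↥(cen t)) ^ (2 ^ k) = 1 from
        Subtype.ext (congrArg Subtype.val hk :), one_pow]
    have hj' : p ^ (2 ^ (k + j)) = 1 := by
      rw [pow_add, mul_comm, pow_mul, show p ^ (2 ^ j) = 1 from
        Subtype.ext (congrArg Subtype.val hj :), one_pow]
    have ho1 : o = 1 := by
      refine eq_one_of_core ho (k := k + j) ?_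
      have h2 : c ^ (2 ^ (k + j)) = 1 := by rw [hcdef, conj_pow, hk', mul_one, mul_inv_cancel]
      rwa [e, (d.core_comm o ho p hpS).symm.mul_pow, hj', one_mul] at h2
    rw [ho1, mul_one] at e
    have : (r : G) * x * (r : G)⁻¹ = p := congrArg Subtype.val e
    rw [this]; exact hpS
  exact Sylow.smul_eq_iff_mem_normalizer.1 (Sylow.ext (Subgroup.eq_of_le_of_card_ge
    (fun y hy => by
      have h := key _ (mem_smul.1 hy)
      simpa [mul_assoc] using h)
    (le_of_eq ((S.card_eq_multiplicity).trans ((r : G) • S).card_eq_multiplicity.symm))))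

include hc in
/-- The centraliser is transitive on the involutions of the trace, through the normalizer of `S`. -/
theorem exists_conj_pi {x y : G} (hx : x ∈ (S : Subgroup G)) (hy : y ∈ (S : Subgroup G))
    (hx2 : orderOf (d.π ⟨x, le_cen hc hx⟩) = 2) (hy2 : orderOf (d.π ⟨y, le_cen hc hy⟩) = 2) :
    ∃ r : ↥(cen t), (r : G) ∈ normalizer ((S : Subgroup G) : Set G) ∧
      d.π (r * ⟨x, le_cen hc hx⟩ * r⁻¹) = d.π ⟨y, le_cen hc hy⟩ := by
  have hxT := pi_mem_trace d hc hx
  have hyT := pi_mem_trace d hc hy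
  rw [trace_eq] at hxT hyT
  obtain ⟨a, ha, hax⟩ := hxT
  obtain ⟨b, hb, hby⟩ := hyT
  obtain ⟨m, hm, hmab⟩ := d.data.trans a b ha hb
    (by rw [← Subgroup.orderOf_coe]; exact (congrArg orderOf hax).trans hx2)
    (by rw [← Subgroup.orderOf_coe]; exact (congrArg orderOf hby).trans hy2)
  obtain ⟨r, hr⟩ := d.surj (m : d.Q)
  refine ⟨r, mem_normalizer_of_trace d hc ?_, ?_⟩
  · rw [hr, trace_eq]
    exact le_normalizer_map d.L.subtype ⟨m, hm, rfl⟩
  · rw [map_mul, map_mul, map_inv, hr, ← hax, ← hby, ← hmab]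
    rfl

include hc in
/-- The involutions and `1` of `S` killed by the projection are `1` and `t`. -/
theorem eq_or_eq_of_pi_eq_one {x : G} (hx : x ∈ (S : Subgroup G)) (h2 : x * x = 1)
    (h : d.π ⟨x, le_cen hc hx⟩ = 1) : x = 1 ∨ x = t := by
  haveI := Fact.mk Nat.prime_two
  by_cases h1 : x = 1
  · exact Or.inl h1
  right
  have hxo : orderOf (⟨x, le_cen hc hx⟩ : ↥(cen t)) = 2 := by
    rw [← Subgroup.orderOf_coe]
    exact orderOf_eq_prime (by rw [pow_two]; exact h2) h1
  have htt : t ∈ cen t := mem_cent.2 (Commute.refl t)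
  have hto : orderOf (⟨t, htt⟩ : ↥(cen t)) = 2 := by rw [← Subgroup.orderOf_coe]; exact d.ht
  exact congrArg Subtype.val (eq_of_cyclic d.ker_cyclic
    (x := (⟨x, le_cen hc hx⟩ : ↥(cen t))) (y := ⟨t, htt⟩)
    ⟨hx, MonoidHom.mem_ker.2 h⟩ ⟨d.htS, MonoidHom.mem_ker.2 (d.mem_ker_self htt)⟩ hxo hto)

include hc in
theorem orderOf_pi {x : G} (hx : x ∈ (S : Subgroup G)) (h2 : x * x = 1) (h1 : x ≠ 1) (ht : x ≠ t) :
    orderOf (d.π ⟨x, le_cen hc hx⟩) = 2 := by
  refine orderOf_eq_prime ?_ fun h => (eq_or_eq_of_pi_eq_one d hc hx h2 h).elim h1 ht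
  rw [← map_pow, show (⟨x, le_cen hc hx⟩ : ↥(cen t)) ^ 2 = 1 from
    Subtype.ext (by rw [SubgroupClass.coe_pow, pow_two]; exact h2), map_one]

end Cfsg.Agent.CyclicSylowInter.Central
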