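import Cfsg.Agent.Lib.J1FromOrder.Rows
import Cfsg.Agent.S0205

/-!
# A simple group of order 175560 has no subgroup of odd order divisible by 1463
-/

set_option autoImplicit false
set_option linter.style.haveILetI false

namespace Cfsg.Agent.CyclicSylowInter.Central

open Subgroup Cfsg.Agent.J1FromOrder Cfsg.Agent.GroupStructure3.J1Order

/-- What is needed of the options. -/
def oddGood : List Opt → Bool
  | [o3, _, _, _, o19] => decide (¬ 5 ∣ o19.2.2.2 ∧ ¬ 7 ∣ o19.2.2.2 ∧ ¬ 11 ∣ o19.2.2.2 ∧
      ¬ (7 ∣ o3.2.2.2 ∧ 19 ∣ o3.2.2.2))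
  | _ => false

set_option maxRecDepth 20000 in
theorem check_odd : check 175560 oddGood [19, 11, 7, 5, 3] [] = true := by decide +kernel

variable {G : Type*} [Group G] [Finite G]

theorem cent_facts [IsSimpleGroup G] (hG : Nat.card G = 175560) :
    (∀ Q : Subgroup G, Nat.card Q = 19 → ∀ r ∈ [5, 7, 11],
      ¬ r ∣ Nat.card (centralizer (Q : Set G))) ∧
    (∀ Q : Subgroup G, Nat.card Q = 3 → 7 ∣ Nat.card (centralizer (Q : Set G)) →
      ¬ 19 ∣ Nat.card (centralizer (Q : Set G))) := by
  obtain ⟨full, h1, h2, h3⟩ := check_sound 175560 hG oddGood [19, 11, 7, 5, 3] [] (by simp) (by simp)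
    (fun p hp => by
      have := exists_opt (J1FromOrder.not_comm (G := G) (by rw [hG]; norm_num)) hG.dvd hp
        (by rw [hG]; fin_cases hp <;> norm_num)
      rwa [hG] at this) check_odd
  match full, h2, h3, h1 with
  | [⟨q3, n3, f3, c3⟩, o5, o7, o11, ⟨q19, n19, f19, c19⟩], h2, h3, h1 =>
    simp only [List.map_cons, List.map_nil, List.reverse_cons, List.reverse_nil, List.nil_append,
      List.cons_append, List.append_nil, List.cons.injEq, and_true] at h2
    obtain ⟨rfl, -, -, -, rfl⟩ := h2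
    simp only [oddGood, decide_eq_true_eq] at h3
    obtain ⟨a5, a7, a11, a3⟩ := h3
    have k3 := h1 (3, n3, f3, c3) (by simp)
    have k19 := h1 (19, n19, f19, c19) (by simp)
    refine ⟨fun Q hQ r hr => ?_, fun Q hQ h7 h19 => ?_⟩
    · rw [(opt_spec hG (by norm_num) k19 hQ).1]
      simp only [List.mem_cons, List.not_mem_nil, or_false] at hr
      rcases hr with rfl | rfl | rfl
      · exact fun h => a5 ((show Nat.Coprime 5 19 by norm_num).dvd_of_dvd_mul_left h)
      · exact fun h => a7 ((show Nat.Coprime 7 19 by norm_num).dvd_of_dvd_mul_left h)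
      · exact fun h => a11 ((show Nat.Coprime 11 19 by norm_num).dvd_of_dvd_mul_left h)
    · rw [(opt_spec hG (by norm_num) k3 hQ).1] at h7 h19
      exact a3 ⟨(show Nat.Coprime 7 3 by norm_num).dvd_of_dvd_mul_left h7,
        (show Nat.Coprime 19 3 by norm_num).dvd_of_dvd_mul_left h19⟩

/-- An element of prime order not dividing `r - 1` centralises a group of order `r` it normalises. -/
theorem commute_of_prime {R : Subgroup G} {r p : ℕ} (hr : r.Prime) (hp : p.Prime)
    (hR : Nat.card R = r) (hpr : ¬ p ∣ r - 1) {g : G} (hg : orderOf g = p)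
    (hn : g ∈ normalizer (R : Set G)) : g ∈ centralizer (R : Set G) := by
  haveI := Fact.mk hr
  haveI : IsCyclic R := isCyclic_of_prime_card hR
  set φ := R.normalizerMonoidHom ⟨g, hn⟩ with hφ
  have h1 : orderOf φ ∣ p := by
    rw [← hg, ← Subgroup.orderOf_mk g hn]
    exact orderOf_map_dvd _ _
  have h2 : orderOf φ ∣ r - 1 := by
    have h := orderOf_dvd_natCard φ
    rwa [Nat.card_congr (IsCyclic.mulAutMulEquiv R).toEquiv, Nat.card_eq_fintype_card,
      ZMod.card_units_eq_totient, hR, Nat.totient_prime hr] at h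
  have h3 : φ = 1 := by
    rcases (Nat.dvd_prime hp).1 h1 with h | h
    · exact orderOf_eq_one_iff.1 h
    · exact absurd (h ▸ h2) hpr
  rw [mem_centralizer_iff]
  intro x hx
  have h4 : ((φ ⟨x, hx⟩ : R) : G) = x := by rw [h3]; rfl
  simp [hφ, normalizerMonoidHom] at h4
  exact (mul_inv_eq_iff_eq_mul.1 h4).symm

omit [Finite G] in
/-- A nontrivial solvable group has a nontrivial commutative normal subgroup. -/
theorem exists_comm_normal [Group.IsSolvable G] (hne : Nontrivial G) :
    ∃ A : Subgroup G, A.Normal ∧ A ≠ ⊥ ∧ ∀ a ∈ A, ∀ b ∈ A, a * b = b * a := by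
  classical
  obtain ⟨k, hk⟩ := (Group.isSolvable_def G).1 inferInstance
  let m := Nat.find (⟨k, hk⟩ : ∃ k, derivedSeries G k = ⊥)
  have hm : derivedSeries G m = ⊥ := Nat.find_spec (⟨k, hk⟩ : ∃ k, derivedSeries G k = ⊥)
  have hm0 : m ≠ 0 := fun h => by
    rw [h, derivedSeries_zero] at hm
    exact top_ne_bot hm
  obtain ⟨j, hj⟩ := Nat.exists_eq_succ_of_ne_zero hm0
  refine ⟨derivedSeries G j, inferInstance, fun h => ?_, fun a ha b hb => ?_⟩
  · exact absurd (Nat.find_min' (⟨k, hk⟩ : ∃ k, derivedSeries G k = ⊥) h) (by omega)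
  · rw [hj, derivedSeries_succ] at hm
    have h := commutator_mem_commutator ha hb
    rw [hm, mem_bot] at h
    exact commutatorElement_eq_one_iff_mul_comm.1 h

/-- No subgroup of odd order divisible by `1463`. -/
theorem false_of_odd [IsSimpleGroup G] (hG : Nat.card G = 175560) (D : Subgroup G)
    (hodd : Odd (Nat.card D)) (hdvd : 1463 ∣ Nat.card D) : False := by
  haveI : Group.IsSolvable D := S0205.result hodd
  haveI : Nontrivial D := by
    rw [← Finite.one_lt_card_iff_nontrivial]
    have := Nat.le_of_dvd Nat.card_pos hdvd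
    omega
  obtain ⟨A, hA, hAne, hcomm⟩ := exists_comm_normal (G := D) inferInstance
  obtain ⟨r, hr, hrA⟩ := Nat.exists_prime_and_dvd (n := Nat.card A)
    (fun h => hAne (eq_bot_of_card_eq _ h))
  haveI := Fact.mk hr
  let P : Sylow r A := default
  haveI : (P : Subgroup A).Normal := ⟨fun x hx g => by
    rw [show g * x * g⁻¹ = x by
      rw [show g * x = x * g from Subtype.ext (hcomm g g.2 x x.2), mul_inv_cancel_right]]
    exact hx⟩
  haveI := Sylow.characteristic_of_normal P inferInstance
  haveI := hA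
  set R₀ := (P : Subgroup A).map A.subtype with hR₀
  haveI : R₀.Normal := inferInstance
  set R := R₀.map D.subtype with hR
  have hcard : Nat.card R = Nat.card (P : Subgroup A) := by
    rw [hR, card_subtype, hR₀, card_subtype]
  have hdG : Nat.card D ∣ 175560 := hG ▸ D.card_subgroup_dvd_card
  have hrD : r ∣ 175560 := hrA.trans (A.card_subgroup_dvd_card.trans hdG)
  have hr5 : r = 3 ∨ r = 5 ∨ r = 7 ∨ r = 11 ∨ r = 19 := by
    have h2 : r ≠ 2 := fun h => by
      have := hrA.trans A.card_subgroup_dvd_card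
      rw [h] at this
      exact Nat.not_even_iff_odd.2 hodd (even_iff_two_dvd.2 this)
    have hp : ∀ q : ℕ, q.Prime → ∀ i, r ∣ q ^ i → r = q := fun q hq i h =>
      (Nat.prime_dvd_prime_iff_eq hr hq).1 (hr.dvd_of_dvd_pow h)
    rw [show 175560 = 2 ^ 3 * 3 ^ 1 * 5 ^ 1 * 7 ^ 1 * 11 ^ 1 * 19 ^ 1 by norm_num] at hrD
    rcases (hr.dvd_mul).1 hrD with h | h
    · rcases (hr.dvd_mul).1 h with h | h
      · rcases (hr.dvd_mul).1 h with h | h
        · rcases (hr.dvd_mul).1 h with h | h
          · rcases (hr.dvd_mul).1 h with h | h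
            · exact absurd (hp 2 Nat.prime_two _ h) h2
            · exact Or.inl (hp 3 (by norm_num) _ h)
          · exact Or.inr (Or.inl (hp 5 (by norm_num) _ h))
        · exact Or.inr (Or.inr (Or.inl (hp 7 (by norm_num) _ h)))
      · exact Or.inr (Or.inr (Or.inr (Or.inl (hp 11 (by norm_num) _ h))))
    · exact Or.inr (Or.inr (Or.inr (Or.inr (hp 19 (by norm_num) _ h))))
  have hRr : Nat.card R = r := by
    rw [hcard, P.card_eq_multiplicity]
    have h1 : 0 < (Nat.card A).factorization r := hr.factorization_pos_of_dvd Nat.card_pos.ne' hrA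
    have h2 : (Nat.card A).factorization r ≤ 1 := by
      by_contra h
      have := ((pow_dvd_pow r (show 2 ≤ (Nat.card A).factorization r by omega)).trans
        (Nat.ordProj_dvd _ r)).trans (A.card_subgroup_dvd_card.trans hdG)
      rcases hr5 with rfl | rfl | rfl | rfl | rfl <;> norm_num at this
    rw [show (Nat.card A).factorization r = 1 by omega, pow_one]
  have hDN : D ≤ normalizer (R : Set G) := by
    refine le_trans ?_ (le_normalizer_map D.subtype)
    intro x hx
    exact ⟨⟨x, hx⟩, by rw [normalizer_eq_top]; trivial, rfl⟩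
  obtain ⟨f19, f3⟩ := cent_facts hG
  have key : ∀ p : ℕ, p.Prime → p ∣ 1463 → ¬ p ∣ r - 1 →
      ∃ g : G, orderOf g = p ∧ g ∈ centralizer (R : Set G) := by
    intro p hp h1 h2
    haveI := Fact.mk hp
    obtain ⟨g, hg⟩ := exists_prime_orderOf_dvd_card' (G := D) p (h1.trans hdvd)
    refine ⟨g, by rw [Subgroup.orderOf_coe, hg], commute_of_prime hr hp hRr h2
      (by rw [Subgroup.orderOf_coe, hg]) (hDN g.2)⟩
  have hdv : ∀ {g : G} {Q : Subgroup G}, g ∈ centralizer (Q : Set G) →
      orderOf g ∣ Nat.card (centralizer (Q : Set G)) := fun {g Q} h => by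
    rw [← Subgroup.orderOf_mk g h]
    exact orderOf_dvd_natCard _
  have hswap : ∀ g : G, orderOf g = 19 → g ∈ centralizer (R : Set G) →
      r ∣ Nat.card (centralizer (zpowers g : Set G)) := by
    intro g _ hg
    rw [← hRr]
    refine Subgroup.card_dvd_of_le fun x hx => mem_centralizer_iff.2 fun y hy => ?_
    obtain ⟨j, rfl⟩ := mem_zpowers_iff.1 hy
    have hxg : Commute x g := mem_centralizer_iff.1 hg x hx
    exact (hxg.zpow_right j).eq.symm
  rcases hr5 with rfl | rfl | rfl | rfl | rfl
  · obtain ⟨a, ha, hac⟩ := key 7 (by norm_num) (by norm_num) (by norm_num)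
    obtain ⟨b, hb, hbc⟩ := key 19 (by norm_num) (by norm_num) (by norm_num)
    exact f3 R hRr (ha ▸ hdv hac) (hb ▸ hdv hbc)
  · obtain ⟨b, hb, hbc⟩ := key 19 (by norm_num) (by norm_num) (by norm_num)
    exact f19 _ (by rw [Nat.card_zpowers, hb]) 5 (by simp) (hswap b hb hbc)
  · obtain ⟨b, hb, hbc⟩ := key 19 (by norm_num) (by norm_num) (by norm_num)
    exact f19 _ (by rw [Nat.card_zpowers, hb]) 7 (by simp) (hswap b hb hbc)
  · obtain ⟨b, hb, hbc⟩ := key 19 (by norm_num) (by norm_num) (by norm_num)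
    exact f19 _ (by rw [Nat.card_zpowers, hb]) 11 (by simp) (hswap b hb hbc)
  · obtain ⟨a, ha, hac⟩ := key 11 (by norm_num) (by norm_num) (by norm_num)
    exact f19 R hRr 11 (by simp) (ha ▸ hdv hac)

end Cfsg.Agent.CyclicSylowInter.Central
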