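import Cfsg.Agent.Lib.ZStar.CyclicIntersections.Reduced
import Cfsg.Agent.S0448

/-!
# Recognition of a simple group with centraliser `C₂ × A₅`
-/

set_option autoImplicit false
set_option linter.style.haveILetI false

namespace Cfsg.Agent.CyclicSylowInter.Central

open Subgroup
open scoped Pointwise
open Cfsg.Agent.ZStar.CyclicIntersections

variable {H : Type*} [Group H] [Finite H]

/-- A normal subgroup of `C₂ × A₅` of order divisible by eight is everything. -/
theorem eq_top_of_eight (K : Subgroup (Multiplicative (ZMod 2) × alternatingGroup (Fin 5)))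
    [K.Normal] (h8 : 8 ∣ Nat.card K) : K = ⊤ := by
  haveI := alternatingGroup.isSimpleGroup_five
  have htot : Nat.card (Multiplicative (ZMod 2) × alternatingGroup (Fin 5)) = 120 := by
    rw [Nat.card_prod, nat_card_alternatingGroup]
    simp [Nat.card_eq_fintype_card, Nat.factorial]
  let ι := MonoidHom.inr (Multiplicative (ZMod 2)) (alternatingGroup (Fin 5))
  rcases (inferInstance : (K.comap ι).Normal).eq_bot_or_eq_top with h | h
  · exfalso
    have hinj : Function.Injective ((MonoidHom.fst _ _).comp K.subtype :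
        K →* Multiplicative (ZMod 2)) := by
      rw [← MonoidHom.ker_eq_bot_iff, eq_bot_iff]
      rintro ⟨⟨a, b⟩, hk⟩ h1
      have ha : a = 1 := h1
      subst ha
      have hb : b ∈ K.comap ι := hk
      rw [h, mem_bot] at hb
      subst hb
      exact one_mem _
    have hle := Nat.card_le_card_of_injective _ hinj
    have := Nat.le_of_dvd Nat.card_pos h8
    simp [Nat.card_eq_fintype_card] at hle
    omega
  · refine eq_top_of_card_eq _ ?_
    have h60 : 60 ∣ Nat.card K := by
      have h1 : (K.comap ι).map ι ≤ K := map_comap_le _ _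
      have h2 := Subgroup.card_dvd_of_le h1
      rw [h, card_map_of_injective (fun a b h => congrArg Prod.snd h : Function.Injective ι),
        Subgroup.card_top, nat_card_alternatingGroup] at h2
      simpa [Nat.card_eq_fintype_card, Nat.factorial] using h2
    have h120 : 120 ∣ Nat.card K := by
      have := Nat.lcm_dvd h8 h60
      norm_num at this
      exact this
    rw [htot]
    exact Nat.dvd_antisymm (htot ▸ K.card_subgroup_dvd_card) h120

theorem isJ1_of_structure (hO : Cfsg.oddCore H = ⊥) (S : Sylow 2 H) {t : H} (ht : orderOf t = 2)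
    (htS : t ∈ (S : Subgroup H)) (hS8 : Nat.card ↥(S : Subgroup H) = 8)
    (hSC : ∀ s ∈ (S : Subgroup H), Commute t s)
    (htr : ∀ v ∈ (S : Subgroup H), v ≠ 1 →
      ∃ n ∈ normalizer ((S : Subgroup H) : Set H), n * t * n⁻¹ = v)
    (e : ↥(centralizer ({t} : Set H)) ≃* Multiplicative (ZMod 2) × alternatingGroup (Fin 5))
    (hmove : ∃ c ∈ normalizer ((S : Subgroup H) : Set H), Commute c t ∧
      ∃ x ∈ (S : Subgroup H), c * x * c⁻¹ ≠ x) : Cfsg.IsJ1 H := by
  classical
  haveI := Fact.mk Nat.prime_two
  have ht1 : t ≠ 1 := orderOf_eq_one_iff.not.1 (by rw [ht]; norm_num)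
  haveI : Nontrivial H := ⟨⟨t, 1, ht1⟩⟩
  haveI : IsSimpleGroup H := by
    refine ⟨fun N hN => ?_⟩
    by_cases hne : N = ⊥
    · exact Or.inl hne
    right
    haveI := hN
    have heven : 2 ∣ Nat.card N := by
      rw [Nat.dvd_iff_mod_eq_zero, ← Nat.even_iff]
      by_contra hodd
      refine hne (le_bot_iff.1 (hO ▸ ?_))
      exact Agent.Cores.le_pPrimeCore (N := N)
        (Nat.coprime_two_right.2 (Nat.not_even_iff_odd.1 hodd))
    obtain ⟨y, hy⟩ := exists_prime_orderOf_dvd_card' (G := N) 2 heven
    have hy2 : orderOf (y : H) = 2 := by rw [Subgroup.orderOf_coe, hy]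
    obtain ⟨T, hyT⟩ := exists_sylow_mem hy2
    obtain ⟨g, rfl⟩ := MulAction.exists_smul_eq H S T
    have hconjN : ∀ a, ∀ x ∈ N, a * x * a⁻¹ ∈ N := fun a x hx => hN.conj_mem x hx a
    have htN : t ∈ N := by
      have hv : g⁻¹ * (y : H) * g ∈ (S : Subgroup H) := mem_smul.1 hyT
      have hvN : g⁻¹ * (y : H) * g ∈ N := by simpa using hconjN g⁻¹ y y.2
      obtain ⟨n, -, hnv⟩ := htr _ hv (fun h => by
        have h1 : (y : H) = 1 := by
          rw [show (y : H) = g * (g⁻¹ * y * g) * g⁻¹ by group, h]; group
        rw [h1, orderOf_one] at hy2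
        omega)
      have := hconjN n⁻¹ _ hvN
      rw [← hnv] at this
      simpa [mul_assoc] using this
    have hSN : (S : Subgroup H) ≤ N := by
      intro v hv
      by_cases h1 : v = 1
      · rw [h1]; exact one_mem N
      · obtain ⟨n, -, rfl⟩ := htr v hv h1
        exact hconjN n t htN
    set C := centralizer ({t} : Set H)
    have hSle : (S : Subgroup H) ≤ C := fun s hs => mem_cent.2 (hSC s hs).symm
    have hCN : C ≤ N := by
      haveI : ((N.subgroupOf C).map e.toMonoidHom).Normal :=
        (inferInstance : (N.subgroupOf C).Normal).map _ e.surjective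
      have h := eq_top_of_eight ((N.subgroupOf C).map e.toMonoidHom) (by
        rw [card_map_of_injective e.injective, ← hS8, ← Nat.card_congr (subgroupOfEquivOfLe hSle).toEquiv]
        exact Subgroup.card_dvd_of_le fun x hx => hSN hx)
      intro x hx
      have hx' : e ⟨x, hx⟩ ∈ (N.subgroupOf C).map e.toMonoidHom := h ▸ mem_top _
      obtain ⟨z, hz, hze⟩ := hx'
      rw [show z = ⟨x, hx⟩ from e.injective hze] at hz
      exact hz
    set NS := normalizer ((S : Subgroup H) : Set H) with hNS
    have horb : (C.subgroupOf NS).index = 7 := by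
      letI : MulAction NS H := MulAction.compHom H
        ((ConjAct.toConjAct (G := H)).toMonoidHom.comp NS.subtype)
      have hstab : MulAction.stabilizer NS t = C.subgroupOf NS := by
        ext ⟨n, hn⟩
        show n * t * n⁻¹ = t ↔ n ∈ C
        rw [mem_cent]
        exact ⟨fun h => mul_inv_eq_iff_eq_mul.1 h, fun h => by rw [h.eq, mul_inv_cancel_right]⟩
      have horbit : MulAction.orbit NS t = ((S : Subgroup H) : Set H) \ {1} := by
        ext v
        constructor
        · rintro ⟨⟨n, hn⟩, rfl⟩
          exact ⟨(mem_normalizer_iff.1 hn t).1 htS, fun h => ht1 (conj_eq_one_iff.1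
            (show n * t * n⁻¹ = 1 from h))⟩
        · rintro ⟨hv, hv1⟩
          obtain ⟨n, hn, rfl⟩ := htr v hv hv1
          exact ⟨⟨n, hn⟩, rfl⟩
      rw [← hstab, MulAction.index_stabilizer, horbit,
        Set.ncard_sdiff_singleton_of_mem (one_mem (S : Subgroup H)), ← Nat.card_coe_set_eq]
      exact congrArg (· - 1) hS8
    have hle : C.subgroupOf NS ≤ N.subgroupOf NS := fun x hx => hCN hx
    have hdiv : (N.subgroupOf NS).index = 1 ∨ (N.subgroupOf NS).index = 7 := by
      have h := index_dvd_of_le hle
      rw [horb] at h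
      exact (Nat.dvd_prime (by norm_num)).1 h
    have hNSN : NS ≤ N := by
      rcases hdiv with h | h
      · exact Subgroup.subgroupOf_eq_top.1 (index_eq_one.1 h)
      exfalso
      have heq : C.subgroupOf NS = N.subgroupOf NS := by
        refine eq_of_le_of_card_ge hle (le_of_eq ?_)
        refine Nat.eq_of_mul_eq_mul_right (show 0 < 7 by norm_num) ?_
        conv_lhs => rw [← h, card_mul_index]
        rw [← horb, card_mul_index]
      obtain ⟨c, hc, hct, x, hx, hcx⟩ := hmove
      have hx1 : x ≠ 1 := fun h => hcx (by rw [h]; group)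
      obtain ⟨n, hn, rfl⟩ := htr x hx hx1
      have hmem : (⟨n⁻¹ * c * n, mul_mem (mul_mem (inv_mem hn) hc) hn⟩ : NS) ∈ C.subgroupOf NS := by
        rw [heq, mem_subgroupOf]
        have h1 : c ∈ N := hCN (mem_cent.2 hct)
        simpa using hconjN n⁻¹ c h1
      have h2 : Commute (n⁻¹ * c * n) t := mem_cent.1 hmem
      refine hcx ?_
      calc c * (n * t * n⁻¹) * c⁻¹ = n * ((n⁻¹ * c * n) * t * (n⁻¹ * c * n)⁻¹) * n⁻¹ := by group
        _ = n * t * n⁻¹ := by rw [h2.eq, mul_inv_cancel_right]
    rw [eq_top_iff]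
    intro h _
    -- the Frattini argument
    have hhN : ((h • S : Sylow 2 H) : Subgroup H) ≤ N := fun x hx => by
      simpa [mul_assoc] using hconjN h _ (hSN (mem_smul.1 hx))
    obtain ⟨m, hm⟩ := MulAction.exists_smul_eq N (S.subtype hSN) ((h • S).subtype hhN)
    have hn : (m : H)⁻¹ * h ∈ NS := by
      refine Sylow.smul_eq_iff_mem_normalizer.1 ?_
      rw [mul_smul, inv_smul_eq_iff]
      apply Sylow.ext
      ext x
      rw [mem_smul, mem_smul]
      constructor
      · intro hx
        have hxN : x ∈ N := by simpa [mul_assoc] using hconjN h _ (hSN hx)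
        have h1 : (⟨x, hxN⟩ : N) ∈ (((h • S).subtype hhN : Sylow 2 N) : Subgroup N) :=
          show x ∈ ((h • S : Sylow 2 H) : Subgroup H) from mem_smul.2 hx
        rw [← hm, mem_smul] at h1
        exact h1
      · intro hx
        have hxN : x ∈ N := by simpa [mul_assoc] using hconjN (m : H) _ (hSN hx)
        have h1 : (⟨x, hxN⟩ : N) ∈ ((m • S.subtype hSN : Sylow 2 N) : Subgroup N) :=
          mem_smul.2 (show _ ∈ _ from hx)
        rw [hm] at h1
        exact mem_smul.1 (show x ∈ ((h • S : Sylow 2 H) : Subgroup H) from h1)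
    have h2 := mul_mem m.2 (hNSN hn)
    rwa [mul_inv_cancel_left] at h2
  exact S0448.result t ⟨ht, S, htS, fun x hx => (hSC x hx).eq.symm⟩ e

end Cfsg.Agent.CyclicSylowInter.Central
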