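import Cfsg.Agent.Lib.CyclicSylowInter.Central.Alt
import Cfsg.Agent.Lib.CyclicSylowInter.Central.Simple
import Cfsg.Agent.Lib.CyclicSylowInter.Central.OddSubgroup
import Cfsg.Agent.S1225

/-!
# The branch of a central involution with nonsolvable centraliser: the first Janko group
-/

set_option autoImplicit false
set_option linter.style.haveILetI false
set_option linter.unusedSectionVars false

namespace Cfsg.Agent.CyclicSylowInter.Central

open Subgroup
open scoped Pointwise
open Cfsg.Agent.ZStar.CyclicIntersections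

universe u

attribute [local instance] Comp.grp Comp.fin

variable {G : Type u} [Group G] [Finite G] {S : Sylow 2 G} {t : G}

/-- The core of the centraliser as a subgroup of `G`. -/
def coreG (t : G) : Subgroup G := (Cfsg.oddCore ↥(cen t)).map (cen t).subtype

variable (hG : Reduced G) (d : Comp S t) (hc : ∀ s ∈ (S : Subgroup G), Commute t s)
include hG d hc

theorem mem_coreG {c : G} :
    c ∈ coreG t ↔ (∀ s ∈ (S : Subgroup G), Commute c s) ∧ Odd (orderOf c) := by
  haveI := Fact.mk Nat.prime_two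
  constructor
  · rintro ⟨o, ho, rfl⟩
    refine ⟨fun s hs => congrArg Subtype.val (d.core_comm o ho ⟨s, le_cen hc hs⟩ hs).eq, ?_⟩
    rw [coe_subtype, Subgroup.orderOf_coe, ← Subgroup.orderOf_mk o ho]
    exact (odd_core (t := t)).of_dvd_nat (orderOf_dvd_natCard _)
  · rintro ⟨hcS, hodd⟩
    obtain ⟨e, -, -, hcen⟩ := exists_alt hG d hc
    have hmem : c ∈ cen t := mem_cent.2 (hcS t d.htS)
    obtain ⟨p, hp, o, ho, e'⟩ := hcen ⟨c, hmem⟩ hcS
    have hp2 : p * p = 1 := Subtype.ext (sq_S hG d hc hp)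
    have hp1 : p = 1 := by
      have hpn : p ^ orderOf c = p := by
        obtain ⟨j, hj⟩ := hodd
        rw [hj, pow_succ, pow_mul, pow_two, hp2, one_pow, one_mul]
      have h1 : (p * o) ^ orderOf c = 1 := by
        rw [← e']
        exact Subtype.ext (by rw [SubgroupClass.coe_pow]; exact pow_orderOf_eq_one c)
      rw [(d.core_comm o ho p hp).symm.mul_pow, hpn] at h1
      have hpo : p ∈ Cfsg.oddCore ↥(cen t) := by
        rw [eq_inv_of_mul_eq_one_left h1]
        exact inv_mem (pow_mem ho _)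
      exact eq_one_of_core hpo (k := 1) (by rw [pow_one, pow_two]; exact hp2)
    refine ⟨o, ho, ?_⟩
    rw [hp1, one_mul] at e'
    exact (congrArg Subtype.val e').symm

theorem normalizer_le : normalizer ((S : Subgroup G) : Set G) ≤ normalizer (coreG t : Set G) := by
  have key : ∀ n ∈ normalizer ((S : Subgroup G) : Set G), ∀ c ∈ coreG t,
      n * c * n⁻¹ ∈ coreG t := by
    intro n hn c hcc
    rw [mem_coreG hG d hc] at hcc ⊢
    exact ⟨fun s hs => commute_conj_of_normalizer hn hcc.1 hs,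
      by rw [Involutions.Basic.orderOf_conj]; exact hcc.2⟩
  intro n hn
  rw [mem_normalizer_iff]
  intro c
  refine ⟨key n hn c, fun h => ?_⟩
  have h' := key n⁻¹ (inv_mem hn) _ h
  simpa [mul_assoc] using h'

theorem cen_le : cen t ≤ normalizer (coreG t : Set G) := by
  refine le_trans ?_ (le_normalizer_map (cen t).subtype)
  intro x hx
  exact ⟨⟨x, hx⟩, by rw [normalizer_eq_top]; trivial, rfl⟩

/-- Involutions of the normalizer of the core have their centralisers inside it. -/
theorem cen_le_of_mem {v : G} (hv : orderOf v = 2) (hvM : v ∈ normalizer (coreG t : Set G)) :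
    cen v ≤ normalizer (coreG t : Set G) := by
  haveI := Fact.mk Nat.prime_two
  set M := normalizer (coreG t : Set G)
  have hSM : (S : Subgroup G) ≤ M := le_normalizer.trans (normalizer_le hG d hc)
  obtain ⟨a, ha, hav⟩ := exists_conj_mem (S.subtype hSM) (D := zpowers v)
    (IsPGroup.of_card (n := 1) (by rw [Nat.card_zpowers, hv, pow_one])) (zpowers_le.2 hvM)
  obtain ⟨w, hw, hwv⟩ := hav v (mem_zpowers v)
  have hwS : a⁻¹ * v * a ∈ (S : Subgroup G) := hwv ▸ hw
  obtain ⟨n, hn, hnv⟩ := exists_conj_of_mem hG d hc hwS (fun h => by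
    rw [show v = a * (a⁻¹ * v * a) * a⁻¹ by group, h] at hv
    simp at hv)
  intro g hg
  set b := a * n with hb
  have hbM : b ∈ M := mul_mem ha (normalizer_le hG d hc hn)
  have hbv : b * t * b⁻¹ = v := by
    rw [show b * t * b⁻¹ = a * (n * t * n⁻¹) * a⁻¹ by rw [hb]; group, hnv]
    group
  have h1 : b⁻¹ * g * b ∈ cen t := by
    refine mem_cent.2 ?_
    have h2 : g * (b * t * b⁻¹) = b * t * b⁻¹ * g := by rw [hbv]; exact (mem_cent.1 hg).eq
    calc b⁻¹ * g * b * t = b⁻¹ * (g * (b * t * b⁻¹)) * b := by group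
      _ = b⁻¹ * (b * t * b⁻¹ * g) * b := by rw [h2]
      _ = t * (b⁻¹ * g * b) := by group
  have h2 := mul_mem (mul_mem hbM (cen_le hG d hc h1)) (inv_mem hbM)
  rwa [show b * (b⁻¹ * g * b) * b⁻¹ = g by group] at h2

/-- The core of the centraliser is trivial. -/
theorem coreG_eq_bot [IsSimpleGroup G] : coreG t = ⊥ := by
  classical
  haveI := Fact.mk Nat.prime_two
  by_contra hne
  set M := normalizer (coreG t : Set G) with hM
  have ht1 : t ≠ 1 := orderOf_eq_one_iff.not.1 (by rw [d.ht]; norm_num)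
  have hMtop : M ≠ ⊤ := by
    intro h
    haveI : (coreG t).Normal := normalizer_eq_top_iff.1 h
    rcases (inferInstance : (coreG t).Normal).eq_bot_or_eq_top with e | e
    · exact hne e
    · have h2 := ((mem_coreG hG d hc (c := t)).1 (e ▸ mem_top t)).2
      rw [d.ht] at h2
      exact absurd h2 (by decide)
  have hSM : (S : Subgroup G) ≤ M := le_normalizer.trans (normalizer_le hG d hc)
  have hCM : cen t ≤ M := cen_le hG d hc
  have htM : t ∈ M := hSM d.htS
  let SM : Sylow 2 M := S.subtype hSM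
  have hconjS : ∀ v : G, orderOf v = 2 → v ∈ M → ∃ a ∈ M, a * t * a⁻¹ = v := by
    intro v hv hvM
    obtain ⟨a, ha, hav⟩ := exists_conj_mem SM (D := zpowers v)
      (IsPGroup.of_card (n := 1) (by rw [Nat.card_zpowers, hv, pow_one])) (zpowers_le.2 hvM)
    obtain ⟨w, hw, hwv⟩ := hav v (mem_zpowers v)
    obtain ⟨n, hn, hnv⟩ := exists_conj_of_mem hG d hc (hwv ▸ hw : a⁻¹ * v * a ∈ (S : Subgroup G))
      (fun h => by
        rw [show v = a * (a⁻¹ * v * a) * a⁻¹ by group, h] at hv
        simp at hv)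
    refine ⟨a * n, mul_mem ha (normalizer_le hG d hc hn), ?_⟩
    rw [show a * n * t * (a * n)⁻¹ = a * (n * t * n⁻¹) * a⁻¹ by group, hnv]
    group
  have hse : Cfsg.IsStronglyEmbedded M := by
    refine ⟨hMtop, ?_, fun g hg => ?_⟩
    · rw [even_iff_two_dvd]
      exact d.ht ▸ (Subgroup.orderOf_mk t htM ▸ orderOf_dvd_natCard _)
    rw [Nat.odd_iff, ← Nat.two_dvd_ne_zero]
    intro h2
    obtain ⟨y, hy⟩ := exists_prime_orderOf_dvd_card'
      (G := ↥(M ⊓ M.map (MulAut.conj g).toMonoidHom)) 2 h2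
    have hy2 : orderOf (y : G) = 2 := by rw [Subgroup.orderOf_coe, hy]
    obtain ⟨z, hzM, hz⟩ := y.2.2
    have hzy : g * z * g⁻¹ = (y : G) := hz
    have hz2 : orderOf z = 2 := by rw [← hy2, ← hzy, Involutions.Basic.orderOf_conj]
    obtain ⟨a, ha, hat⟩ := hconjS _ hy2 y.2.1
    obtain ⟨b, hb, hbt⟩ := hconjS z hz2 hzM
    have hzz : (a * b⁻¹) * z * (a * b⁻¹)⁻¹ = (y : G) := by
      rw [← hbt, ← hat]; group
    have hmem : g * (a * b⁻¹)⁻¹ ∈ cen (y : G) := by
      refine mem_cent.2 (mul_inv_eq_iff_eq_mul.1 ?_)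
      calc g * (a * b⁻¹)⁻¹ * y * (g * (a * b⁻¹)⁻¹)⁻¹
          = g * ((a * b⁻¹)⁻¹ * y * (a * b⁻¹)) * g⁻¹ := by group
        _ = g * z * g⁻¹ := by rw [← hzz]; group
        _ = y := hzy
    have h3 := mul_mem (cen_le_of_mem hG d hc hy2 y.2.1 hmem) (mul_mem ha (inv_mem hb))
    rw [inv_mul_cancel_right] at h3
    exact hg h3
  -- an involution outside
  obtain ⟨u, hu, huM⟩ : ∃ u : G, orderOf u = 2 ∧ u ∉ M := by
    by_contra! h
    refine hMtop (top_le_iff.1 ?_)
    rcases (normalClosure_normal (s := ({t} : Set G))).eq_bot_or_eq_top with e | e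
    · exact absurd (mem_bot.1 (e ▸ subset_normalClosure (Set.mem_singleton t))) ht1
    · rw [← e]
      refine (closure_le M).2 fun x hx => ?_
      obtain ⟨a, rfl, hax⟩ := Group.mem_conjugatesOfSet_iff.1 hx
      obtain ⟨g, rfl⟩ := isConj_iff.1 hax
      exact h _ (by rw [Involutions.Basic.orderOf_conj, d.ht])
  set D := M ⊓ M.map (MulAut.conj u).toMonoidHom
  have hDodd : Odd (Nat.card D) := hse.2.2 u huM
  -- the quotient by the core
  set Y := Cfsg.oddCore ↥M
  have hYodd : Odd (Nat.card Y) := Nat.coprime_two_right.1 (Agent.Cores.pPrimeCore_card_coprime 2)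
  have hYeq : ∀ x : M, (x : G) ∈ cen t → (x ∈ Y ↔ (x : G) ∈ coreG t) := by
    intro x hx
    constructor
    · intro hxY
      haveI : ((Y.map M.subtype).subgroupOf (cen t)).Normal := by
        refine ⟨fun a ha c => ?_⟩
        obtain ⟨y, hy, hya⟩ := ha
        refine ⟨⟨c, hCM c.2⟩ * y * ⟨c, hCM c.2⟩⁻¹,
          (inferInstance : Y.Normal).conj_mem y hy _, ?_⟩
        show (c : G) * y * (c : G)⁻¹ = (c : G) * a * (c : G)⁻¹
        rw [show (y : G) = a from hya]
      have hle : (Y.map M.subtype).subgroupOf (cen t) ≤ Cfsg.oddCore ↥(cen t) := by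
        refine Agent.Cores.le_pPrimeCore (N := (Y.map M.subtype).subgroupOf (cen t))
          (Nat.coprime_two_right.2 ?_)
        have h1 : Nat.card ↥((Y.map M.subtype).subgroupOf (cen t)) ∣ Nat.card Y := by
          refine (Subgroup.card_comap_dvd_of_injective _ _ (cen t).subtype_injective).trans ?_
          rw [card_subtype]
        exact hYodd.of_dvd_nat h1
      exact ⟨⟨x, hx⟩, hle (show (x : G) ∈ Y.map M.subtype from mem_map_of_mem _ hxY), rfl⟩
    · intro hxX
      haveI : ((coreG t).subgroupOf M).Normal := normal_subgroupOf_of_le_normalizer le_rfl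
      refine Agent.Cores.le_pPrimeCore (N := (coreG t).subgroupOf M) (Nat.coprime_two_right.2 ?_)
        hxX
      have h1 : Nat.card ↥((coreG t).subgroupOf M) ∣ Nat.card ↥(Cfsg.oddCore ↥(cen t)) := by
        refine (Subgroup.card_comap_dvd_of_injective _ _ M.subtype_injective).trans ?_
        rw [coreG, card_subtype]
      exact (odd_core (t := t)).of_dvd_nat h1
  let π : M →* M ⧸ Y := QuotientGroup.mk' Y
  have hπ : Function.Surjective π := QuotientGroup.mk'_surjective Y
  let SB : Sylow 2 (M ⧸ Y) := SM.mapSurjective hπ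
  have hSB : ∀ q, q ∈ (SB : Subgroup (M ⧸ Y)) ↔ ∃ s : M, (s : G) ∈ (S : Subgroup G) ∧ π s = q :=
    fun q => by rw [Sylow.coe_mapSurjective]; rfl
  set tM : M := ⟨t, htM⟩
  have hpiS : ∀ s : M, (s : G) ∈ (S : Subgroup G) → π s = 1 → s = 1 := by
    intro s hs h1
    have hsY : s ∈ Y := (QuotientGroup.eq_one_iff s).1 h1
    have h2 : orderOf s ∣ 2 :=
      orderOf_dvd_of_pow_eq_one (Subtype.ext (by rw [SubgroupClass.coe_pow, pow_two]; exact sq_S hG d hc hs))
    exact orderOf_eq_one_iff.1 (Nat.eq_one_of_dvd_coprimes (Nat.coprime_two_left.2 hYodd) h2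
      (Subgroup.orderOf_mk s hsY ▸ orderOf_dvd_natCard _))
  have htB : orderOf (π tM) = 2 := by
    refine orderOf_eq_prime ?_ fun h => ht1 (congrArg Subtype.val (hpiS tM d.htS h) :)
    rw [← map_pow, show tM ^ 2 = 1 from
      Subtype.ext (by rw [SubgroupClass.coe_pow, pow_two]; exact mul_self_of_orderOf d.ht), map_one]
  have hnorm : ∀ n : M, (n : G) ∈ normalizer ((S : Subgroup G) : Set G) →
      π n ∈ normalizer ((SB : Subgroup (M ⧸ Y)) : Set (M ⧸ Y)) := by
    intro n hn
    rw [Sylow.coe_mapSurjective]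
    refine le_normalizer_map π ⟨n, ?_, rfl⟩
    rw [SetLike.mem_coe, mem_normalizer_iff]
    intro x
    exact mem_normalizer_iff.1 hn (x : G)
  -- the centraliser in the quotient
  obtain ⟨Φ, hΦ, hker, -⟩ := exists_alt hG d hc
  set K := centralizer ({π tM} : Set (M ⧸ Y))
  let ψ : ↥(cen t) →* K := (π.comp (Subgroup.inclusion hCM)).codRestrict K fun c =>
    mem_cent.2 ((show Commute (Subgroup.inclusion hCM c) tM from
      Subtype.ext (mem_cent.1 c.2).eq).map π)
  have hψs : Function.Surjective ψ := by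
    rintro ⟨q, hq⟩
    obtain ⟨m, rfl⟩ := hπ q
    -- `t` and its conjugate under `m` are involutions congruent modulo `Y`
    set t' := m * tM * m⁻¹ with ht'
    set z := t' * tM with hz
    have hzY : z ∈ Y := by
      refine (QuotientGroup.eq_one_iff z).1 ?_
      show π z = 1
      have h2 : π tM * π tM = 1 := mul_self_of_orderOf htB
      rw [hz, ht', map_mul, map_mul, map_mul, map_inv, (mem_cent.1 hq).eq, mul_inv_cancel_right, h2]
    obtain ⟨j, hj⟩ : ∃ j : ℕ, (z ^ 2) ^ j = z := by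
      have ho : Odd (orderOf z) := hYodd.of_dvd_nat
        (Subgroup.orderOf_mk z hzY ▸ orderOf_dvd_natCard _)
      obtain ⟨i, hi⟩ := ho
      refine ⟨i + 1, ?_⟩
      rw [← pow_mul, show 2 * (i + 1) = orderOf z + 1 by omega, pow_succ, pow_orderOf_eq_one, one_mul]
    set y := z ^ j with hy
    have htt : tM * tM = 1 := Subtype.ext (mul_self_of_orderOf d.ht)
    have ht't' : t' * t' = 1 := by
      rw [ht', show m * tM * m⁻¹ * (m * tM * m⁻¹) = m * (tM * tM) * m⁻¹ by group, htt, mul_one,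
        mul_inv_cancel]
    have hinvz : tM * z * tM⁻¹ = z⁻¹ := by
      rw [inv_eq_of_mul_eq_one_left htt, hz, mul_inv_rev, inv_eq_of_mul_eq_one_left htt,
        inv_eq_of_mul_eq_one_left ht't', mul_assoc, mul_assoc t', htt, mul_one]
    have hyt : tM * y * tM⁻¹ = y⁻¹ := by rw [hy, ← conj_pow, hinvz, inv_pow]
    have hkey : y * tM * y⁻¹ = t' := by
      calc y * tM * y⁻¹ = y * (tM * y⁻¹ * tM⁻¹) * tM := by group
        _ = y * y * tM := by rw [← conj_inv, hyt, inv_inv]
        _ = z * tM := by rw [← pow_two, hy, ← pow_mul, mul_comm, pow_mul, hj]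
        _ = t' := by rw [hz, mul_assoc, htt, mul_one]
    have hmem : ((y⁻¹ * m : M) : G) ∈ cen t := by
      have h : y⁻¹ * m * tM * (y⁻¹ * m)⁻¹ = tM := by
        calc y⁻¹ * m * tM * (y⁻¹ * m)⁻¹ = y⁻¹ * (m * tM * m⁻¹) * y := by group
          _ = tM := by rw [← ht', ← hkey]; group
      exact mem_cent.2 (congrArg Subtype.val (mul_inv_eq_iff_eq_mul.1 h) :)
    refine ⟨⟨_, hmem⟩, Subtype.ext ?_⟩
    show π (y⁻¹ * m) = π m
    rw [map_mul, map_inv, show π y = 1 from (QuotientGroup.eq_one_iff y).2 (pow_mem hzY j),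
      inv_one, one_mul]
  have hψker : ψ.ker = Φ.ker := by
    rw [hker]
    ext c
    have h1 : (c ∈ ψ.ker) ↔ Subgroup.inclusion hCM c ∈ Y := by
      rw [MonoidHom.mem_ker, ← QuotientGroup.eq_one_iff]
      exact ⟨fun h => congrArg Subtype.val h, fun h => Subtype.ext h⟩
    rw [h1, hYeq _ c.2]
    exact mem_map_iff_mem (cen t).subtype_injective
  let e : K ≃* Multiplicative (ZMod 2) × alternatingGroup (Fin 5) :=
    (QuotientGroup.quotientKerEquivOfSurjective ψ hψs).symm.trans
      ((QuotientGroup.quotientMulEquivOfEq hψker).trans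
        (QuotientGroup.quotientKerEquivOfSurjective Φ hΦ))
  -- the quotient is the first Janko group
  have hJ : Cfsg.IsJ1 (M ⧸ Y) := by
    refine isJ1_of_structure (Agent.Cores.pPrimeCore_quotient_self 2) SB htB
      ((hSB _).2 ⟨tM, d.htS, rfl⟩) ?_ ?_ ?_ e ?_
    · have hinj : Function.Injective (π.comp (Subgroup.inclusion hSM)) := by
        rw [← MonoidHom.ker_eq_bot_iff, eq_bot_iff]
        intro s hs
        have := hpiS (Subgroup.inclusion hSM s) s.2 hs
        exact Subgroup.mem_bot.2 (Subtype.ext (congrArg Subtype.val this :))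
      have hr : (π.comp (Subgroup.inclusion hSM)).range = (SB : Subgroup (M ⧸ Y)) := by
        ext q
        rw [hSB]
        constructor
        · rintro ⟨s, rfl⟩
          exact ⟨_, s.2, rfl⟩
        · rintro ⟨s, hs, rfl⟩
          exact ⟨⟨s, hs⟩, rfl⟩
      rw [← hr, ← Nat.card_congr (MonoidHom.ofInjective hinj).toEquiv, card_S_eq hG d hc]
    · intro q hq
      obtain ⟨s, hs, rfl⟩ := (hSB q).1 hq
      exact (show Commute tM s from Subtype.ext (hc (s : G) hs).eq).map π
    · intro q hq hq1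
      obtain ⟨s, hs, rfl⟩ := (hSB q).1 hq
      obtain ⟨n, hn, hns⟩ := exists_conj_of_mem hG d hc hs (fun h => hq1 (by
        rw [show s = 1 from Subtype.ext h, map_one]))
      refine ⟨π ⟨n, normalizer_le hG d hc hn⟩, hnorm _ hn, ?_⟩
      rw [← map_inv, ← map_mul, ← map_mul]
      exact congrArg π (Subtype.ext hns)
    · obtain ⟨c, hcN, hct, x, hx, hcx⟩ := exists_mover hG d hc
      refine ⟨π ⟨c, normalizer_le hG d hc hcN⟩, hnorm _ hcN,
        (show Commute (⟨c, normalizer_le hG d hc hcN⟩ : M) tM from Subtype.ext hct.eq).map π,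
        π ⟨x, hSM hx⟩, (hSB _).2 ⟨_, hx, rfl⟩, fun h => hcx ?_⟩
      rw [← map_inv, ← map_mul, ← map_mul] at h
      set s' : M := ⟨c, normalizer_le hG d hc hcN⟩ * ⟨x, hSM hx⟩ *
        (⟨c, normalizer_le hG d hc hcN⟩ : M)⁻¹
      have h1 : π (s' * ⟨x, hSM hx⟩) = 1 := by
        rw [map_mul, h, ← map_mul, show (⟨x, hSM hx⟩ : M) * ⟨x, hSM hx⟩ = 1 from
          Subtype.ext (sq_S hG d hc hx), map_one]
      have h2 : c * x * c⁻¹ * x = 1 := congrArg Subtype.val
        (hpiS _ (mul_mem ((mem_normalizer_iff.1 hcN x).1 hx) hx) h1)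
      rw [← mul_one (c * x * c⁻¹), ← sq_S hG d hc hx, ← mul_assoc, h2, one_mul]
  -- its subgroup from `D` is transitive on its involutions
  haveI : IsSimpleGroup (M ⧸ Y) := hJ.1
  set DB := (D.subgroupOf M).map π with hDB
  refine false_of_odd hJ.2 DB (hDodd.of_dvd_nat ?_) ?_
  · refine ((D.subgroupOf M).card_map_dvd π).trans (dvd_of_eq ?_)
    exact Nat.card_congr (subgroupOfEquivOfLe inf_le_left).toEquiv
  haveI : Finite (ConjAct (M ⧸ Y)) := inferInstanceAs (Finite (M ⧸ Y))
  set A : Subgroup (ConjAct (M ⧸ Y)) := DB.map ConjAct.toConjAct.toMonoidHom with hA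
  have hAcard : Nat.card A = Nat.card DB := card_map_of_injective ConjAct.toConjAct.injective
  have horb : MulAction.orbit A (π tM) = MulAction.orbit (ConjAct (M ⧸ Y)) (π tM) := by
    ext q
    constructor
    · rintro ⟨⟨a, ha⟩, rfl⟩
      exact ⟨a, rfl⟩
    · rintro ⟨a, rfl⟩
      obtain ⟨m, hm⟩ := hπ (ConjAct.ofConjAct a)
      obtain ⟨dd, hd, hdt⟩ := (S1225.result M hse u hu huM t ((m : G) * t * (m : G)⁻¹) d.ht htM
        (by rw [Involutions.Basic.orderOf_conj]; exact d.ht)
        (mul_mem (mul_mem m.2 htM) (inv_mem m.2))).1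
      refine ⟨⟨ConjAct.toConjAct (π ⟨dd, hd.1⟩),
        mem_map_of_mem _ (mem_map_of_mem _ (show (⟨dd, hd.1⟩ : M) ∈ D.subgroupOf M from hd))⟩, ?_⟩
      show π ⟨dd, hd.1⟩ * π tM * (π ⟨dd, hd.1⟩)⁻¹ = ConjAct.ofConjAct a * π tM * (ConjAct.ofConjAct a)⁻¹
      rw [← hm, ← map_inv, ← map_mul, ← map_mul, ← map_inv, ← map_mul, ← map_mul]
      exact congrArg π (Subtype.ext hdt)
  have h1463 : (MulAction.stabilizer (ConjAct (M ⧸ Y)) (π tM)).index = 1463 := by
    have h := (MulAction.stabilizer (ConjAct (M ⧸ Y)) (π tM)).card_mul_index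
    have hst : Nat.card ↥(MulAction.stabilizer (ConjAct (M ⧸ Y)) (π tM)) = 120 := by
      rw [show Nat.card ↥(MulAction.stabilizer (ConjAct (M ⧸ Y)) (π tM)) = Nat.card K from
        Nat.card_congr ((ConjAct.toConjAct (G := M ⧸ Y)).symm.toEquiv.subtypeEquiv (fun a => by
          show a • π tM = π tM ↔ ConjAct.ofConjAct a ∈ K
          rw [ConjAct.smul_def, mul_inv_eq_iff_eq_mul, mem_cent]
          exact Iff.rfl)), Nat.card_congr e.toEquiv, Nat.card_prod, nat_card_alternatingGroup]
      simp [Nat.card_eq_fintype_card, Nat.factorial]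
    rw [hst, show Nat.card (ConjAct (M ⧸ Y)) = Nat.card (M ⧸ Y) from rfl, hJ.2] at h
    omega
  have hdvd : (MulAction.stabilizer A (π tM)).index ∣ Nat.card A := index_dvd_card _
  rw [MulAction.index_stabilizer, horb, ← MulAction.index_stabilizer, h1463, hAcard] at hdvd
  exact hdvd

end Cfsg.Agent.CyclicSylowInter.Central

namespace Cfsg.Agent.CyclicSylowInter

open Cfsg.Agent.ZStar.CyclicIntersections

universe u

/-- The branch of a central involution: the first Janko group. -/
theorem central_branch : CentralBranch.{u} := by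
  intro G _ _ hH S t d hc
  haveI := hH.simple
  have hG := hH.reduced
  obtain ⟨Φ, hΦ, hker, -⟩ := Central.exists_alt hG d hc
  have hinj : Function.Injective Φ := by
    rw [← MonoidHom.ker_eq_bot_iff, hker]
    exact Subgroup.map_eq_bot_iff_of_injective _ (cen t).subtype_injective |>.1
      (Central.coreG_eq_bot hG d hc)
  exact Central.isJ1_of_structure hG.oddCore_eq_bot S d.ht d.htS (Central.card_S_eq hG d hc) hc
    (fun v hv hv1 => Central.exists_conj_of_mem hG d hc hv hv1)
    (MulEquiv.ofBijective Φ ⟨hinj, hΦ⟩) (Central.exists_mover hG d hc)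

end Cfsg.Agent.CyclicSylowInter
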