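import Cfsg.Agent.Lib.CyclicSylowInter.Central.Rank

/-!
# The Sylow subgroup is elementary abelian of order eight
-/

set_option autoImplicit false
set_option linter.style.haveILetI false
set_option linter.unusedSectionVars false

namespace Cfsg.Agent.CyclicSylowInter.Central

open Subgroup
open scoped Pointwise
open Cfsg.Agent.ZStar.CyclicIntersections

universe u

attribute [local instance] Comp.grp Comp.fin

variable {G : Type u} [Group G] [Finite G] {S : Sylow 2 G} {t : G}

variable (hG : Reduced G) (d : Comp S t) (hc : ∀ s ∈ (S : Subgroup G), Commute t s)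
include hG d hc

/-- Central elements of `S` modulo the projection square to one. -/
theorem pi_sq_of_central {x : G} (hx : x ∈ (S : Subgroup G))
    (hxc : ∀ s ∈ (S : Subgroup G), Commute x s) : d.π ⟨x * x, le_cen hc (mul_mem hx hx)⟩ = 1 := by
  have hxT := pi_mem_trace d hc hx
  rw [trace_eq] at hxT
  obtain ⟨a, ha, hax⟩ := hxT
  have hac : ∀ s ∈ (d.SL : Subgroup ↥d.L), Commute a s := by
    intro s hs
    have h1 : d.L.subtype s ∈ trace d := trace_eq d ▸ mem_map_of_mem d.L.subtype hs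
    obtain ⟨p, hp, hps⟩ := h1
    apply Subtype.ext
    show (a : d.Q) * s = s * a
    rw [show (a : d.Q) = d.π ⟨x, le_cen hc hx⟩ from hax, show (s : d.Q) = d.π p from hps.symm,
      ← map_mul, ← map_mul]
    congr 1
    exact Subtype.ext (hxc (p : G) hp).eq
  have h := congrArg Subtype.val (d.data.center_sq a ha hac)
  rw [show (⟨x * x, le_cen hc (mul_mem hx hx)⟩ : ↥(cen t)) =
    ⟨x, le_cen hc hx⟩ * ⟨x, le_cen hc hx⟩ from rfl, map_mul, ← hax]
  exact h

/-- The elements of `S` killed by the projection. -/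
theorem eq_or_eq_of_mem_ker {x : G} (hx : x ∈ (S : Subgroup G))
    (h : d.π ⟨x, le_cen hc hx⟩ = 1) : x = 1 ∨ x = t := by
  haveI := Fact.mk Nat.prime_two
  by_cases h2 : x * x = 1
  · exact eq_or_eq_of_pi_eq_one d hc hx h2 h
  exfalso
  -- a root of `t` of order four in the kernel
  obtain ⟨k, hk⟩ := S.isPGroup' ⟨x, hx⟩
  have hk' : x ^ (2 ^ k) = 1 := congrArg Subtype.val hk
  classical
  have hex : ∃ j, x ^ (2 ^ j) = 1 := ⟨k, hk'⟩
  obtain ⟨m, hm⟩ : ∃ m, Nat.find hex = m + 2 := by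
    refine ⟨Nat.find hex - 2, ?_⟩
    have h0 : Nat.find hex ≠ 0 := fun e => h2 (by
      have := Nat.find_spec hex; rw [e, pow_zero, pow_one] at this; rw [this, one_mul])
    have h1 : Nat.find hex ≠ 1 := fun e => h2 (by
      have := Nat.find_spec hex; rw [e, pow_one, pow_two] at this; exact this)
    omega
  set v := x ^ (2 ^ m) with hv
  have hvS : v ∈ (S : Subgroup G) := pow_mem hx _
  have hπv : d.π ⟨v, le_cen hc hvS⟩ = 1 := by
    rw [show (⟨v, le_cen hc hvS⟩ : ↥(cen t)) = ⟨x, le_cen hc hx⟩ ^ (2 ^ m) from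
      Subtype.ext (by rw [SubgroupClass.coe_pow]), map_pow, h, one_pow]
  have hv4 : v * v * (v * v) = 1 := by
    have := Nat.find_spec hex
    rw [hm, pow_succ, pow_succ, pow_mul, pow_mul, ← hv, pow_two, pow_two] at this
    exact this
  have hv2 : v * v ≠ 1 := by
    intro e
    refine Nat.find_min hex (m := m + 1) (by omega) ?_
    rw [pow_succ, pow_mul, ← hv, pow_two, e]
  have hvt : v * v = t := by
    refine (eq_or_eq_of_pi_eq_one d hc (mul_mem hvS hvS) hv4 ?_).resolve_left hv2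
    rw [show (⟨v * v, le_cen hc (mul_mem hvS hvS)⟩ : ↥(cen t)) =
      ⟨v, le_cen hc hvS⟩ * ⟨v, le_cen hc hvS⟩ from rfl, map_mul, hπv, one_mul]
  have hvc : ∀ s ∈ (S : Subgroup G), Commute v s := fun s hs =>
    congrArg Subtype.val (d.ker_central ⟨v, le_cen hc hvS⟩ (MonoidHom.mem_ker.2 hπv) hvS
      ⟨s, le_cen hc hs⟩ hs).eq
  obtain ⟨n, hn, hne⟩ := hG.exists_moved S d.ht d.htS hc
  have huS : n * v * n⁻¹ ∈ (S : Subgroup G) := (mem_normalizer_iff.1 hn v).1 hvS
  have huu : n * v * n⁻¹ * (n * v * n⁻¹) = n * t * n⁻¹ := by rw [← hvt]; group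
  have h1 := pi_sq_of_central hG d hc huS fun s hs => commute_conj_of_normalizer hn hvc hs
  simp only [huu] at h1
  have htn := conj_centInv hn (t_mem d hc)
  rcases eq_or_eq_of_pi_eq_one d hc htn.1 htn.2.1 h1 with e | e
  · exact (orderOf_eq_one_iff.not.1 (by rw [d.ht]; norm_num)) (conj_eq_one_iff.1 e)
  · exact hne e

/-- The projection on `S`. -/
def piS : ↥(S : Subgroup G) →* d.Q := d.π.comp (Subgroup.inclusion (le_cen hc))

theorem card_ker_piS : Nat.card ↥(piS d hc).ker = 2 := by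
  have ht1 : t ≠ 1 := orderOf_eq_one_iff.not.1 (by rw [d.ht]; norm_num)
  rw [Nat.card_eq_two_iff]
  refine ⟨1, ⟨⟨t, d.htS⟩, MonoidHom.mem_ker.2 (d.mem_ker_self (le_cen hc d.htS))⟩, fun h => ht1
    (congrArg (fun z : ↥(piS d hc).ker => ((z : ↥(S : Subgroup G)) : G)) h).symm, ?_⟩
  rw [Set.eq_univ_iff_forall]
  rintro ⟨⟨x, hx⟩, hk⟩
  rcases eq_or_eq_of_mem_ker hG d hc hx hk with rfl | rfl
  · exact Or.inl rfl
  · exact Or.inr rfl

theorem card_S : Nat.card ↥(S : Subgroup G) = 2 * (2 ^ d.n) ^ d.i := by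
  rw [← (piS d hc).ker.card_mul_index, card_ker_piS hG d hc, index_ker, ← d.data.card_sylow,
    ← card_subtype d.L (d.SL : Subgroup ↥d.L), ← trace_eq d]
  congr 1
  have : (piS d hc).range = trace d := by
    ext q
    constructor
    · rintro ⟨⟨x, hx⟩, rfl⟩
      exact pi_mem_trace d hc hx
    · rintro ⟨p, hp, rfl⟩
      exact ⟨⟨p, hp⟩, rfl⟩
  rw [this]

theorem card_centInv : Nat.card ↥(centInv S) = 2 * 2 ^ d.n := by
  classical
  haveI := Fact.mk Nat.prime_two
  have ht1 : t ≠ 1 := orderOf_eq_one_iff.not.1 (by rw [d.ht]; norm_num)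
  obtain ⟨f, -, -, -, -, htrans⟩ := exists_frame hG d hc
  obtain ⟨n, hn, hne⟩ := hG.exists_moved S d.ht d.htS hc
  have hx₀ := conj_centInv hn (t_mem d hc)
  let φ : ↥(centInv S) →* d.Q :=
    d.π.comp (Subgroup.inclusion (fun x hx => le_cen hc hx.1))
  have hker : Nat.card φ.ker = 2 := by
    rw [Nat.card_eq_two_iff]
    refine ⟨1, ⟨⟨t, t_mem d hc⟩, MonoidHom.mem_ker.2 (d.mem_ker_self (le_cen hc d.htS))⟩, fun h => ht1
      (congrArg (fun z : ↥φ.ker => ((z : ↥(centInv S)) : G)) h).symm, ?_⟩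
    rw [Set.eq_univ_iff_forall]
    rintro ⟨⟨x, hx⟩, hk⟩
    rcases eq_or_eq_of_pi_eq_one d hc hx.1 hx.2.1 hk with rfl | rfl
    · exact Or.inl rfl
    · exact Or.inr rfl
  have hrange : (φ.range : Set d.Q) =
      insert 1 (d.L.subtype '' {a : ↥d.L | a ∈ (d.SL : Subgroup ↥d.L) ∧ orderOf a = 2}) := by
    ext q
    constructor
    · rintro ⟨⟨x, hx⟩, rfl⟩
      by_cases h : x = 1 ∨ x = t
      · left
        rcases h with rfl | rfl
        · exact map_one φ
        · exact d.mem_ker_self (le_cen hc d.htS)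
      · push Not at h
        have hT := pi_mem_trace d hc hx.1
        rw [trace_eq] at hT
        obtain ⟨a, ha, hax⟩ := hT
        refine Or.inr ⟨a, ⟨ha, ?_⟩, hax⟩
        rw [← Subgroup.orderOf_coe]
        exact (congrArg orderOf hax).trans (orderOf_pi d hc hx.1 hx.2.1 h.1 h.2)
    · rintro (rfl | ⟨b, ⟨hb, hb2⟩, rfl⟩)
      · exact one_mem φ.range
      · have hb' : d.L.subtype b ∈ trace d := trace_eq d ▸ mem_map_of_mem d.L.subtype hb
        obtain ⟨p, hp, hpb⟩ := hb'
        have hx1 : n * t * n⁻¹ ≠ 1 := fun h => ht1 (conj_eq_one_iff.1 h)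
        obtain ⟨r, hrN, hr⟩ := exists_conj_pi d hc hx₀.1 (y := (p : G)) hp
          (orderOf_pi d hc hx₀.1 hx₀.2.1 hx1 hne) (by
            show orderOf (d.π p) = 2
            rw [hpb]
            exact (Subgroup.orderOf_coe b).trans hb2)
        exact ⟨⟨_, conj_centInv hrN hx₀⟩, hr.trans hpb⟩
  rw [← φ.ker.card_mul_index, hker, index_ker, ← SetLike.coe_sort_coe, Nat.card_coe_set_eq, hrange,
    Set.ncard_insert_of_notMem, Set.ncard_image_of_injective _ d.L.subtype_injective,
    d.data.ncard_inv]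
  · have := Nat.one_le_two_pow (n := d.n)
    omega
  · rintro ⟨b, ⟨-, hb2⟩, hb1⟩
    rw [show b = 1 from Subtype.ext hb1, orderOf_one] at hb2
    omega

theorem n_eq : d.n = 2 := by
  have h1 := card_centInv_le hG d hc
  rw [card_centInv hG d hc] at h1
  have h2 := d.data.two_le
  by_contra h
  have : 2 ^ 3 ≤ 2 ^ d.n := Nat.pow_le_pow_right two_pos (by omega)
  omega

theorem card_centInv_eq : Nat.card ↥(centInv S) = 8 := by
  rw [card_centInv hG d hc, n_eq hG d hc]; norm_num

/-- Some element of odd prime-power order is transitive on the seven involutions. -/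
theorem i_eq : d.i = 1 := by
  classical
  haveI := Fact.mk Nat.prime_two
  rcases d.data.i_mem with h | h | h
  · exact h
  · have := d.data.suzuki_odd h
    rw [n_eq hG d hc] at this
    exact absurd this (by decide)
  exfalso
  haveI : Fact (Nat.Prime 7) := ⟨by norm_num⟩
  haveI : Finite (ConjAct G) := inferInstanceAs (Finite G)
  obtain ⟨f, -, -, -, -, htrans⟩ := exists_frame hG d hc
  obtain ⟨R, hRN, hodd, hR⟩ := exists_odd_part S
  let P₀ : Sylow 7 R := default
  set P := (P₀ : Subgroup R).map R.subtype with hP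
  have hPR : P ≤ R := map_subtype_le _
  have hPp : IsPGroup 7 P := P₀.isPGroup'.map _
  let A : Subgroup (ConjAct G) := P.map ConjAct.toConjAct.toMonoidHom
  have hA : IsPGroup 7 A := hPp.map _
  -- the orbit of `t` under `R` has seven elements
  let AR : Subgroup (ConjAct G) := R.map ConjAct.toConjAct.toMonoidHom
  have horbit : MulAction.orbit ↥AR t = {x : G | x ∈ centInv S ∧ x ≠ 1} := by
    ext x
    constructor
    · rintro ⟨⟨a, r, hr, rfl⟩, rfl⟩
      exact ⟨conj_centInv (hRN hr) (t_mem d hc), fun h => by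
        have h' : r * t * r⁻¹ = 1 := h
        exact orderOf_eq_one_iff.not.1 (by rw [d.ht]; norm_num) (conj_eq_one_iff.1 h')⟩
    · rintro ⟨hx, hx1⟩
      obtain ⟨n, hn, rfl⟩ := htrans x hx hx1
      obtain ⟨r, hr, hact, -⟩ := hR n hn
      exact ⟨⟨_, mem_map_of_mem _ hr⟩, (hact t (t_mem d hc)).symm⟩
  have h7 : Nat.card ↥(MulAction.orbit ↥AR t) = 7 := by
    have h8 := card_centInv_eq hG d hc
    rw [← SetLike.coe_sort_coe, Nat.card_coe_set_eq] at h8
    rw [horbit, Nat.card_coe_set_eq,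
      show {x : G | x ∈ centInv S ∧ x ≠ 1} = (centInv S : Set G) \ {1} from rfl,
      Set.ncard_sdiff_singleton_of_mem (one_mem _), h8]
  have hstab : ∀ x ∈ centInv S, x ≠ 1 → ¬ ∀ a : A, a • x = x := by
    intro x hx hx1 hfix
    have hxo : x ∈ MulAction.orbit ↥AR t := horbit ▸ ⟨hx, hx1⟩
    have h7' : Nat.card ↥(MulAction.orbit ↥AR x) = 7 := by rw [MulAction.orbit_eq_iff.2 hxo]; exact h7
    have hle : A.subgroupOf AR ≤ MulAction.stabilizer (↥AR) x := fun a ha => hfix ⟨a, ha⟩
    have h1 : (7 : ℕ) ∣ (A.subgroupOf AR).index := by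
      refine dvd_trans (dvd_of_eq ?_) (Subgroup.index_dvd_of_le hle)
      rw [MulAction.index_stabilizer, ← Nat.card_coe_set_eq, h7']
    have h2 : (A.subgroupOf AR).index = (P₀ : Subgroup R).index := by
      refine Nat.eq_of_mul_eq_mul_left (Nat.card_pos (α := ↥(A.subgroupOf AR))) ?_
      rw [card_mul_index, Nat.card_congr (subgroupOfEquivOfLe (map_mono hPR)).toEquiv,
        card_map_of_injective ConjAct.toConjAct.injective,
        card_map_of_injective ConjAct.toConjAct.injective, hP, card_subtype, card_mul_index]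
    exact P₀.not_dvd_index (h2 ▸ h1)
  -- `P` fixes an element of `S` outside the central involutions
  set X : Set G := {x | x ∈ (S : Subgroup G) ∧ x ∉ centInv S} with hX
  have hXinv : ∀ a : A, ∀ x ∈ X, a • x ∈ X := by
    rintro ⟨a, r, hr, rfl⟩ x ⟨hxS, hxW⟩
    have hrN := hRN (hPR hr)
    refine ⟨(mem_normalizer_iff.1 hrN x).1 hxS, fun h => hxW ?_⟩
    have h' := conj_centInv (inv_mem hrN) (show r * x * r⁻¹ ∈ centInv S from h)
    rwa [show r⁻¹ * (r * x * r⁻¹) * r⁻¹⁻¹ = x by group] at h'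
  letI : MulAction A X :=
    { smul := fun a x => ⟨a • (x : G), hXinv a x x.2⟩
      one_smul := fun x => Subtype.ext (one_smul A (x : G))
      mul_smul := fun a b x => Subtype.ext (mul_smul a b (x : G)) }
  have hXcard : Nat.card X = 120 := by
    have h8 := card_centInv_eq hG d hc
    have h128 := card_S hG d hc
    rw [n_eq hG d hc, h] at h128
    rw [← SetLike.coe_sort_coe, Nat.card_coe_set_eq] at h8 h128
    rw [Nat.card_coe_set_eq,
      show X = ((S : Subgroup G) : Set G) \ (centInv S : Set G) from rfl,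
      Set.ncard_sdiff (fun x hx => hx.1), h128, h8]
    norm_num
  have hfx := hA.card_modEq_card_fixedPoints X
  rw [hXcard] at hfx
  obtain ⟨⟨⟨s, hsS, hsW⟩, hs⟩⟩ : Nonempty ↥(MulAction.fixedPoints A X) := by
    refine (Nat.card_pos_iff.1 (Nat.pos_of_ne_zero fun h0 => ?_)).1
    rw [h0] at hfx
    exact absurd hfx (by decide)
  have hfixs : ∀ a : A, a • s = s := fun a => congrArg Subtype.val (hs a :)
  -- its square is a fixed central involution or one
  have hsT := pi_mem_trace d hc hsS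
  rw [trace_eq] at hsT
  obtain ⟨a, ha, has⟩ := hsT
  have hssS : s * s ∈ (S : Subgroup G) := mul_mem hsS hsS
  have hπss : d.π ⟨s * s, le_cen hc hssS⟩ = d.L.subtype (a * a) := by
    rw [show (⟨s * s, le_cen hc hssS⟩ : ↥(cen t)) =
      ⟨s, le_cen hc hsS⟩ * ⟨s, le_cen hc hsS⟩ from rfl, map_mul, ← has, map_mul]
  have hlift : ∀ y : G, ∀ hy : y ∈ (S : Subgroup G), ∀ b ∈ (d.SL : Subgroup ↥d.L), b * b = 1 →
      d.π ⟨y, le_cen hc hy⟩ = d.L.subtype b → y ∈ centInv S := by
    intro y hy b hb hb2 hyb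
    obtain ⟨n, hn, hne⟩ := hG.exists_moved S d.ht d.htS hc
    have hx₀ := conj_centInv hn (t_mem d hc)
    have main : ∃ w, ∃ hw : w ∈ centInv S, d.π ⟨w, le_cen hc hw.1⟩ = d.π ⟨y, le_cen hc hy⟩ := by
      by_cases hb1 : b = 1
      · refine ⟨1, one_mem _, ?_⟩
        rw [hyb, hb1, map_one, show (⟨1, le_cen hc (one_mem _)⟩ : ↥(cen t)) = 1 from rfl, map_one]
      · obtain ⟨r, hrN, hr⟩ := exists_conj_pi d hc hx₀.1 hy
          (orderOf_pi d hc hx₀.1 hx₀.2.1 (fun h' => orderOf_eq_one_iff.not.1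
            (by rw [d.ht]; norm_num) (conj_eq_one_iff.1 h')) hne) (by
            rw [hyb]
            exact (Subgroup.orderOf_coe b).trans
              (orderOf_eq_prime (by rw [pow_two]; exact hb2) hb1))
        exact ⟨_, conj_centInv hrN hx₀, hr⟩
    obtain ⟨w, hw, hwy⟩ := main
    have hyw : y * w ∈ (S : Subgroup G) := mul_mem hy hw.1
    have hk : d.π ⟨y * w, le_cen hc hyw⟩ = 1 := by
      rw [show (⟨y * w, le_cen hc hyw⟩ : ↥(cen t)) = ⟨y, le_cen hc hy⟩ * ⟨w, le_cen hc hw.1⟩ from rfl,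
        map_mul, ← hwy, ← map_mul, show (⟨w, le_cen hc hw.1⟩ : ↥(cen t)) * ⟨w, le_cen hc hw.1⟩ = 1
          from Subtype.ext hw.2.1, map_one]
    have h1 : y * w ∈ centInv S := by
      rcases eq_or_eq_of_mem_ker hG d hc hyw hk with e | e <;> rw [e]
      exacts [one_mem _, t_mem d hc]
    have h2 := mul_mem h1 hw
    rwa [mul_assoc, hw.2.1, mul_one] at h2
  have hssW : s * s ∈ centInv S :=
    hlift _ hssS _ (mul_mem ha ha) (d.data.sq_sq a ha) hπss
  have hs2 : s * s = 1 := by
    by_contra h1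
    refine hstab _ hssW h1 fun b => ?_
    rw [show b • (s * s) = b • s * b • s from smul_mul' (b : ConjAct G) s s, hfixs b]
  refine hsW (hlift s hsS a ha ?_ has.symm)
  apply d.L.subtype_injective
  rw [map_one, ← hπss]
  simp only [hs2]
  exact map_one d.π

theorem card_S_eq : Nat.card ↥(S : Subgroup G) = 8 := by
  rw [card_S hG d hc, n_eq hG d hc, i_eq hG d hc]; norm_num

theorem S_eq : (S : Subgroup G) = centInv S := by
  refine (Subgroup.eq_of_le_of_card_ge (fun x (hx : x ∈ centInv S) => hx.1) ?_).symm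
  rw [card_S_eq hG d hc, card_centInv_eq hG d hc]

/-- All involutions of `S` are conjugate under its normalizer. -/
theorem exists_conj_of_mem {v : G} (hv : v ∈ (S : Subgroup G)) (h1 : v ≠ 1) :
    ∃ n ∈ normalizer ((S : Subgroup G) : Set G), n * t * n⁻¹ = v := by
  obtain ⟨f, -, -, -, -, htrans⟩ := exists_frame hG d hc
  exact htrans v (S_eq hG d hc ▸ hv) h1

theorem comm_S {a b : G} (ha : a ∈ (S : Subgroup G)) (hb : b ∈ (S : Subgroup G)) : Commute a b := by
  have h : a ∈ centInv S := S_eq hG d hc ▸ ha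
  exact h.2.2 b hb

theorem sq_S {a : G} (ha : a ∈ (S : Subgroup G)) : a * a = 1 :=
  centInv_sq (S_eq hG d hc ▸ ha : a ∈ centInv S)

/-- An element of the centraliser moving a point of `S`. -/
theorem exists_mover : ∃ c ∈ normalizer ((S : Subgroup G) : Set G), Commute c t ∧
    ∃ x ∈ (S : Subgroup G), c * x * c⁻¹ ≠ x := by
  classical
  obtain ⟨f, hft, hfadd, -, hclass, -⟩ := exists_frame hG d hc
  let V := centInv S
  have h8 : Nat.card V = 8 := card_centInv_eq hG d hc
  have hpick : ∀ D : Finset G, D.card < 8 → ∃ v ∈ V, v ∉ D := by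
    intro D hD
    by_contra! h
    have h1 : (V : Set G).ncard ≤ (D : Set G).ncard := Set.ncard_le_ncard fun v hv => h v hv
    rw [Set.ncard_coe_finset, ← Nat.card_coe_set_eq] at h1
    have : Nat.card V ≤ D.card := h1
    omega
  obtain ⟨a, ha, ha'⟩ := hpick {1, t} (lt_of_le_of_lt Finset.card_le_two (by norm_num))
  obtain ⟨b, hb, hb'⟩ := hpick {1, t, a, t * a}
    (lt_of_le_of_lt Finset.card_le_four (by norm_num))
  simp only [Finset.mem_insert, Finset.mem_singleton, not_or] at ha' hb'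
  -- one of `b`, `t * b` is in the class of `a`
  have hyb : ∃ y ∈ V, y ≠ 1 ∧ y ≠ t ∧ y ≠ a ∧ f y = f a := by
    by_cases hf : f b = f a
    · exact ⟨b, hb, hb'.1, hb'.2.1, hb'.2.2.1, hf⟩
    · have htt : t * t = 1 := centInv_sq (t_mem d hc)
      refine ⟨t * b, mul_mem (t_mem d hc) hb, fun h => hb'.2.1 ?_, fun h => hb'.1 ?_,
        fun h => hb'.2.2.2 ?_, ?_⟩
      · rw [← one_mul b, ← htt, mul_assoc, h, mul_one]
      · exact mul_eq_left.1 h
      · rw [← h, ← mul_assoc, htt, one_mul]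
      · rw [hfadd t (t_mem d hc) b hb, hft]
        exact two_eq (a := f b) (fun h => by simp at h) (Ne.symm hf)
  obtain ⟨y, hy, hy1, hyt, hya, hfy⟩ := hyb
  obtain ⟨c, hcN, hct, hca⟩ := hclass a ha y hy ha'.1 ha'.2 hy1 hyt hfy.symm
  exact ⟨c, hcN, hct, a, ha.1, hca ▸ hya⟩

end Cfsg.Agent.CyclicSylowInter.Central
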