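import Mathlib

/-!
# Antisymmetric families of hyperplanes

An elementary abelian 2-group with a hyperplane attached to each involution, such that of two
involutions exactly one lies in the hyperplane of the other, has order at most 8.
-/

set_option autoImplicit false

namespace Cfsg.Agent.CyclicSylowInter.Central

open Subgroup

variable {G : Type*} [Group G] [Finite G]

theorem not_parity (a b : Prop) : ¬ (((¬ a) ↔ ¬ b) ↔ ¬ (a ↔ b)) := by
  by_cases a <;> by_cases b <;> simp [*]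

theorem false_of_parity {a b c a' b' c' : Prop} (h : ¬ ((a ↔ b) ↔ c)) (h' : ¬ ((a' ↔ b') ↔ c'))
    (h'' : ¬ (((a ↔ a') ↔ (b ↔ b')) ↔ (c ↔ c'))) : False := by
  by_cases a <;> by_cases a' <;> by_cases b <;> by_cases b' <;> simp_all

theorem card_le_eight (W : Subgroup G) (hW : ∀ a ∈ W, a * a = 1) (P : G → G → Prop)
    (hmul : ∀ v ∈ W, v ≠ 1 → ∀ a ∈ W, ∀ b ∈ W, (P v (a * b) ↔ (P v a ↔ P v b)))
    (hanti : ∀ v ∈ W, ∀ w ∈ W, v ≠ 1 → w ≠ 1 → v ≠ w → (P v w ↔ ¬ P w v)) :
    Nat.card W ≤ 8 := by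
  classical
  by_contra hlt
  have hcomm : ∀ a ∈ W, ∀ b ∈ W, a * b = b * a := fun a ha b hb => by
    have h1 : (a * b)⁻¹ = a * b := inv_eq_of_mul_eq_one_left (hW _ (mul_mem ha hb))
    rw [mul_inv_rev, inv_eq_of_mul_eq_one_left (hW a ha), inv_eq_of_mul_eq_one_left (hW b hb)] at h1
    exact h1.symm
  have hpick : ∀ D : Finset G, D.card ≤ 8 → ∃ v ∈ W, v ∉ D := by
    intro D hD
    by_contra! h
    have h1 : (W : Set G).ncard ≤ (D : Set G).ncard := Set.ncard_le_ncard fun v hv => h v hv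
    rw [Set.ncard_coe_finset, ← Nat.card_coe_set_eq] at h1
    exact hlt (h1.trans hD)
  have step : ∀ v ∈ W, ∀ w ∈ W, v ≠ 1 → w ≠ 1 → v ≠ w → ∀ x ∈ W,
      x ∉ ({1, v, w, v * w} : Finset G) → ¬ ((P v x ↔ P w x) ↔ P (v * w) x) := by
    intro v hv w hw hv1 hw1 hvw x hx hxP
    simp only [Finset.mem_insert, Finset.mem_singleton, not_or] at hxP
    obtain ⟨hx1, hxv, hxw, hxu⟩ := hxP
    have hu1 : v * w ≠ 1 := fun h => hvw (by
      rw [← mul_one v, ← hW w hw, ← mul_assoc, h, one_mul])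
    rw [hanti v hv x hx hv1 hx1 (Ne.symm hxv), hanti w hw x hx hw1 hx1 (Ne.symm hxw),
      hanti (v * w) (mul_mem hv hw) x hx hu1 hx1 (Ne.symm hxu), hmul x hx hx1 v hv w hw]
    exact not_parity _ _
  obtain ⟨v, hv, hv'⟩ := hpick {1} (by simp)
  obtain ⟨w, hw, hw'⟩ := hpick {1, v} (Finset.card_le_two.trans (by norm_num))
  simp only [Finset.mem_insert, Finset.mem_singleton, not_or] at hv' hw'
  obtain ⟨x, hx, hx'⟩ := hpick {1, v, w, v * w} (Finset.card_le_four.trans (by norm_num))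
  obtain ⟨y, hy, hy'⟩ := hpick ({1, v, w, v * w} ∪ {x, x * v, x * w, x * (v * w)})
    ((Finset.card_union_le _ _).trans (Nat.add_le_add Finset.card_le_four Finset.card_le_four))
  simp only [Finset.mem_union, not_or] at hy'
  have hxy : x * y ∉ ({1, v, w, v * w} : Finset G) := by
    intro h
    refine hy'.2 ?_
    simp only [Finset.mem_insert, Finset.mem_singleton] at h ⊢
    have key : ∀ a, x * y = a → y = x * a := fun a e => by rw [← e, ← mul_assoc, hW x hx, one_mul]
    rcases h with h | h | h | h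
    · exact Or.inl ((key _ h).trans (mul_one x))
    · exact Or.inr (Or.inl (key _ h))
    · exact Or.inr (Or.inr (Or.inl (key _ h)))
    · exact Or.inr (Or.inr (Or.inr (key _ h)))
  have a := step v hv w hw hv' hw'.1 (Ne.symm hw'.2) x hx hx'
  have b := step v hv w hw hv' hw'.1 (Ne.symm hw'.2) y hy hy'.1
  have c := step v hv w hw hv' hw'.1 (Ne.symm hw'.2) (x * y) (mul_mem hx hy) hxy
  have hu1 : v * w ≠ 1 := fun h => hw'.2 (by
    rw [← one_mul w, ← hW v hv, mul_assoc, h, mul_one])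
  rw [hmul v hv hv' x hx y hy, hmul w hw hw'.1 x hx y hy,
    hmul (v * w) (mul_mem hv hw) hu1 x hx y hy] at c
  exact false_of_parity a b c

end Cfsg.Agent.CyclicSylowInter.Central
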