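import Mathlib

/-!
# An invariant functional on an elementary abelian 2-group
-/

set_option autoImplicit false

namespace Cfsg.Agent.CyclicSylowInter.Central

open Subgroup

variable {G : Type*} [Group G] [Finite G]

/-- A functional which is `1` at a given involution. -/
theorem exists_functional (W : Subgroup G) (hW : ∀ a ∈ W, a * a = 1) {t : G} (htW : t ∈ W)
    (ht : t ≠ 1) :
    ∃ ξ : G → ZMod 2, ξ t = 1 ∧ ∀ a ∈ W, ∀ b ∈ W, ξ (a * b) = ξ a + ξ b := by
  classical
  have hcomm : ∀ a ∈ W, ∀ b ∈ W, a * b = b * a := fun a ha b hb => by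
    have h1 : (a * b)⁻¹ = a * b := inv_eq_of_mul_eq_one_left (hW _ (mul_mem ha hb))
    rw [mul_inv_rev, inv_eq_of_mul_eq_one_left (hW a ha), inv_eq_of_mul_eq_one_left (hW b hb)] at h1
    exact h1.symm
  obtain ⟨H, ⟨hHW, htH⟩, hmax⟩ := (Set.toFinite {H : Subgroup G | H ≤ W ∧ t ∉ H}).exists_maximal
    ⟨⊥, bot_le, by simpa using ht⟩
  have hcos : ∀ a ∈ W, a ∉ H → t * a ∈ H := by
    intro a ha haH
    let K : Subgroup G :=
      { carrier := {x | x ∈ W ∧ (x ∈ H ∨ x * a ∈ H)}
        one_mem' := ⟨one_mem W, Or.inl (one_mem H)⟩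
        mul_mem' := by
          rintro x y ⟨hx, hx'⟩ ⟨hy, hy'⟩
          refine ⟨mul_mem hx hy, ?_⟩
          rcases hx' with hx' | hx' <;> rcases hy' with hy' | hy'
          · exact Or.inl (mul_mem hx' hy')
          · exact Or.inr (by rw [mul_assoc]; exact mul_mem hx' hy')
          · exact Or.inr (by rw [mul_assoc, hcomm y hy a ha, ← mul_assoc]; exact mul_mem hx' hy')
          · refine Or.inl ?_
            have h := mul_mem hx' hy'
            rwa [hcomm y hy a ha, mul_assoc, ← mul_assoc a a y, hW a ha, one_mul] at h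
        inv_mem' := by
          rintro x ⟨hx, hx'⟩
          rw [inv_eq_of_mul_eq_one_left (hW x hx)]
          exact ⟨hx, hx'⟩ }
    have htK : t ∈ K := by
      by_contra htK
      have hle : H ≤ K := fun x hx => ⟨hHW hx, Or.inl hx⟩
      have haK : a ∈ K := ⟨ha, Or.inr (by rw [hW a ha]; exact one_mem H)⟩
      exact haH (hmax (y := K) ⟨fun x hx => hx.1, htK⟩ hle haK)
    exact htK.2.resolve_left htH
  refine ⟨fun x => if x ∈ H then 0 else 1, if_neg htH, fun a ha b hb => ?_⟩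
  dsimp only
  by_cases h1 : a ∈ H <;> by_cases h2 : b ∈ H
  · rw [if_pos h1, if_pos h2, if_pos (mul_mem h1 h2), add_zero]
  · rw [if_pos h1, if_neg h2, if_neg (fun h => h2 ((mul_mem_cancel_left h1).1 h)), zero_add]
  · rw [if_neg h1, if_pos h2, if_neg (fun h => h1 ((mul_mem_cancel_right h2).1 h)), add_zero]
  · have h := mul_mem (hcos a ha h1) (hcos b hb h2)
    rw [show t * a * (t * b) = a * b by
      rw [hcomm t htW a ha, mul_assoc, ← mul_assoc t t b, hW t htW, one_mul]] at h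
    rw [if_neg h1, if_neg h2, if_pos h]
    decide

/-- The mean over a group of odd order normalising `W` is an invariant functional. -/
theorem exists_invariant (W : Subgroup G) (hW : ∀ a ∈ W, a * a = 1) (R : Subgroup G)
    (hodd : Odd (Nat.card R)) (hRW : ∀ r ∈ R, ∀ a ∈ W, r * a * r⁻¹ ∈ W) {t : G} (htW : t ∈ W)
    (ht : t ≠ 1) (hRt : ∀ r ∈ R, r * t * r⁻¹ = t) :
    ∃ f : G → ZMod 2, f t = 1 ∧ (∀ a ∈ W, ∀ b ∈ W, f (a * b) = f a + f b) ∧
      ∀ r ∈ R, ∀ a : G, f (r * a * r⁻¹) = f a := by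
  classical
  haveI := Fintype.ofFinite R
  obtain ⟨ξ, hξt, hξ⟩ := exists_functional W hW htW ht
  refine ⟨fun a => ∑ r : R, ξ ((r : G) * a * (r : G)⁻¹), ?_, fun a ha b hb => ?_, fun r hr a => ?_⟩
  · show ∑ r : R, ξ ((r : G) * t * (r : G)⁻¹) = 1
    rw [Finset.sum_congr rfl fun r _ => by rw [hRt r r.2, hξt], Finset.sum_const, Finset.card_univ,
      ← Nat.card_eq_fintype_card, nsmul_one]
    exact ZMod.natCast_eq_one_iff_odd.2 hodd
  · rw [← Finset.sum_add_distrib]
    refine Finset.sum_congr rfl fun r _ => ?_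
    rw [← hξ _ (hRW r r.2 a ha) _ (hRW r r.2 b hb), conj_mul]
  · refine Fintype.sum_equiv (Equiv.mulRight (⟨r, hr⟩ : R)) _ _ fun s => ?_
    simp [mul_assoc]

end Cfsg.Agent.CyclicSylowInter.Central
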