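import Cfsg.Agent.Lib.CyclicSylowInter.Central.Frame
import Cfsg.Agent.Lib.CyclicSylowInter.Central.Plane
import Cfsg.Agent.Lib.CyclicSylowInter.Central.Weight

/-!
# The central involutions form a group of order eight
-/

set_option autoImplicit false
set_option linter.style.haveILetI false
set_option linter.unusedSectionVars false

namespace Cfsg.Agent.CyclicSylowInter.Central

open Subgroup
open scoped Pointwise
open Cfsg.Agent.ZStar.CyclicIntersections

universe u

attribute [local instance] Comp.grp Comp.fin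

variable {G : Type u} [Group G] [Finite G] {S : Sylow 2 G} {t : G}

theorem two_eq {p q a : ZMod 2} (h : ¬ p = a) (h' : q ≠ a) : p = q := by
  revert h h'; revert p q a; decide

theorem two_one {p : ZMod 2} (h : ¬ p = 0) : p = 1 := by revert h; revert p; decide

theorem two_add {p q : ZMod 2} : p + q = 0 ↔ (p = 0 ↔ q = 0) := by revert p q; decide

theorem two_ne {p q : ZMod 2} (h : p ≠ q) : p = 0 ↔ ¬ q = 0 := by revert h; revert p q; decide

theorem centInv_sq {x : G} (hx : x ∈ centInv S) : x * x = 1 := hx.2.1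

theorem conj_centInv {n x : G} (hn : n ∈ normalizer ((S : Subgroup G) : Set G))
    (hx : x ∈ centInv S) : n * x * n⁻¹ ∈ centInv S :=
  ⟨(mem_normalizer_iff.1 hn x).1 hx.1, by
    rw [show n * x * n⁻¹ * (n * x * n⁻¹) = n * (x * x) * n⁻¹ by group, hx.2.1, mul_one,
      mul_inv_cancel], fun _ hs => commute_conj_of_normalizer hn hx.2.2 hs⟩

/-- The odd complement controls the action on the central involutions. -/
theorem exists_odd_part (S : Sylow 2 G) : ∃ R : Subgroup G,
    R ≤ normalizer ((S : Subgroup G) : Set G) ∧ Odd (Nat.card R) ∧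
    ∀ n ∈ normalizer ((S : Subgroup G) : Set G), ∃ r ∈ R,
      (∀ x ∈ centInv S, n * x * n⁻¹ = r * x * r⁻¹) ∧ ∃ s ∈ (S : Subgroup G), n = r * s := by
  obtain ⟨R, hRN, hodd, hle⟩ := exists_complement S
  refine ⟨R, hRN, hodd, fun n hn => ?_⟩
  have h := hle hn
  rw [sup_comm, ← SetLike.mem_coe, coe_mul_of_left_le_normalizer_right _ _ hRN] at h
  obtain ⟨r, hr, s, hs, rfl⟩ := h
  refine ⟨r, hr, fun x hx => ?_, s, hs, rfl⟩
  show r * s * x * (r * s)⁻¹ = r * x * r⁻¹
  rw [mul_assoc r s x, (hx.2.2 s hs).symm.eq]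
  group

/-- The set of conjugates under a subgroup of odd order has odd size. -/
theorem odd_conjugates (R : Subgroup G) (hodd : Odd (Nat.card R)) (x : G) :
    Odd {y : G | ∃ r ∈ R, r * x * r⁻¹ = y}.ncard := by
  let A : Subgroup (ConjAct G) := R.map ConjAct.toConjAct.toMonoidHom
  have hA : Odd (Nat.card A) := by
    rw [card_map_of_injective ConjAct.toConjAct.injective]; exact hodd
  have he : {y : G | ∃ r ∈ R, r * x * r⁻¹ = y} = MulAction.orbit ↥A x := by
    ext y
    constructor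
    · rintro ⟨r, hr, rfl⟩
      exact ⟨⟨_, mem_map_of_mem _ hr⟩, rfl⟩
    · rintro ⟨⟨a, r, hr, rfl⟩, rfl⟩
      exact ⟨r, hr, rfl⟩
  rw [he, ← Nat.card_coe_set_eq, Nat.card_congr (MulAction.orbitEquivQuotientStabilizer A x)]
  exact hA.of_dvd_nat ⟨_, Subgroup.card_eq_card_quotient_mul_card_subgroup _⟩

variable (hG : Reduced G) (d : Comp S t) (hc : ∀ s ∈ (S : Subgroup G), Commute t s)
include hG d hc

/-- The invariant functional, the orbits of the centraliser of `t`, and transitivity. -/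
theorem exists_frame : ∃ f : G → ZMod 2, f t = 1 ∧
    (∀ a ∈ centInv S, ∀ b ∈ centInv S, f (a * b) = f a + f b) ∧
    (∀ n ∈ normalizer ((S : Subgroup G) : Set G), Commute n t → ∀ a ∈ centInv S,
      f (n * a * n⁻¹) = f a) ∧
    (∀ x ∈ centInv S, ∀ y ∈ centInv S, x ≠ 1 → x ≠ t → y ≠ 1 → y ≠ t → f x = f y →
      ∃ c ∈ normalizer ((S : Subgroup G) : Set G), Commute c t ∧ c * x * c⁻¹ = y) ∧
    ∀ v ∈ centInv S, v ≠ 1 →
      ∃ n ∈ normalizer ((S : Subgroup G) : Set G), n * t * n⁻¹ = v := by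
  classical
  haveI := Fact.mk Nat.prime_two
  obtain ⟨R, hRN, hodd, hR⟩ := exists_odd_part S
  have ht1 : t ≠ 1 := fun h => by have := d.ht; rw [h, orderOf_one] at this; omega
  have htW := t_mem d hc
  have hconj : ∀ r : G, Commute r t → r * t * r⁻¹ = t := fun r h => by
    rw [h.eq, mul_inv_cancel_right]
  have hR0 : Odd (Nat.card ↥(R ⊓ cen t)) := hodd.of_dvd_nat (card_dvd_of_le inf_le_left)
  obtain ⟨f, hft, hfadd, hfinv⟩ := exists_invariant (centInv S) (fun a ha => centInv_sq ha)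
    (R ⊓ cen t) hR0 (fun r hr a ha => conj_centInv (hRN hr.1) ha) htW ht1
    (fun r hr => hconj r (mem_cent.1 hr.2))
  have hred : ∀ n ∈ normalizer ((S : Subgroup G) : Set G), Commute n t →
      ∃ r ∈ R ⊓ cen t, ∀ a ∈ centInv S, n * a * n⁻¹ = r * a * r⁻¹ := by
    intro n hn hnt
    obtain ⟨r, hr, hact, s, hs, rfl⟩ := hR n hn
    refine ⟨r, ⟨hr, mem_cent.2 ?_⟩, hact⟩
    have h := hnt.mul_left ((hc s hs).symm.inv_left)
    rwa [mul_inv_cancel_right] at h
  have hinv : ∀ n ∈ normalizer ((S : Subgroup G) : Set G), Commute n t → ∀ a ∈ centInv S,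
      f (n * a * n⁻¹) = f a := by
    intro n hn hnt a ha
    obtain ⟨r, hr, hact⟩ := hred n hn hnt
    rw [hact a ha, hfinv r hr]
  have hclass : ∀ x ∈ centInv S, ∀ y ∈ centInv S, x ≠ 1 → x ≠ t → y ≠ 1 → y ≠ t → f x = f y →
      ∃ c ∈ normalizer ((S : Subgroup G) : Set G), Commute c t ∧ c * x * c⁻¹ = y := by
    intro x hx y hy hx1 hxt hy1 hyt hf
    obtain ⟨r, hrN, hr⟩ := exists_conj_pi d hc hx.1 hy.1 (orderOf_pi d hc hx.1 hx.2.1 hx1 hxt)
      (orderOf_pi d hc hy.1 hy.2.1 hy1 hyt)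
    have hrt : Commute (r : G) t := mem_cent.1 r.2
    set z := (r : G) * x * (r : G)⁻¹ with hz
    have hzW : z ∈ centInv S := conj_centInv hrN hx
    have hzy : z * y ∈ centInv S := mul_mem hzW hy
    have hπ : d.π ⟨z * y, le_cen hc hzy.1⟩ = 1 := by
      have h : d.π ⟨z, le_cen hc hzW.1⟩ = d.π ⟨y, le_cen hc hy.1⟩ := hr
      rw [show (⟨z * y, le_cen hc hzy.1⟩ : ↥(cen t)) =
        ⟨z, le_cen hc hzW.1⟩ * ⟨y, le_cen hc hy.1⟩ from rfl, map_mul, h, ← map_mul,
        show (⟨y, le_cen hc hy.1⟩ : ↥(cen t)) * ⟨y, le_cen hc hy.1⟩ = 1 from Subtype.ext hy.2.1,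
        map_one]
    rcases eq_or_eq_of_pi_eq_one d hc hzy.1 hzy.2.1 hπ with h | h
    · refine ⟨r, hrN, hrt, ?_⟩
      rw [← hz, ← mul_one z, ← hy.2.1, ← mul_assoc, h, one_mul]
    · exfalso
      have h1 := hfadd z hzW y hy
      rw [h, hft, hz, hinv _ hrN hrt x hx, hf, CharTwo.add_self_eq_zero] at h1
      exact one_ne_zero h1
  refine ⟨f, hft, hfadd, hinv, hclass, ?_⟩
  -- transitivity
  set O := {y : G | ∃ r ∈ R, r * t * r⁻¹ = y} with hO
  have hON : ∀ n ∈ normalizer ((S : Subgroup G) : Set G), ∀ y ∈ O, n * y * n⁻¹ ∈ O := by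
    rintro n hn _ ⟨r, hr, rfl⟩
    obtain ⟨r', hr', hact, -⟩ := hR (n * r) (mul_mem hn (hRN hr))
    exact ⟨r', hr', by rw [← hact t htW]; group⟩
  have hOW : ∀ y ∈ O, y ∈ centInv S ∧ y ≠ 1 := by
    rintro _ ⟨r, hr, rfl⟩
    exact ⟨conj_centInv (hRN hr) htW, fun h => ht1 (conj_eq_one_iff.1 h)⟩
  have hcl : ∀ x ∈ O, x ≠ t → ∀ y ∈ centInv S, y ≠ 1 → y ≠ t → f x = f y → y ∈ O := by
    intro x hx hxt y hy hy1 hyt hf
    obtain ⟨c, hcN, -, rfl⟩ := hclass x (hOW x hx).1 y hy (hOW x hx).2 hxt hy1 hyt hf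
    exact hON c hcN x hx
  have htO : t ∈ O := ⟨1, one_mem R, by group⟩
  obtain ⟨n, hn, hne⟩ := hG.exists_moved S d.ht d.htS hc
  have hx₀ : n * t * n⁻¹ ∈ O := hON n hn t htO
  set x₀ := n * t * n⁻¹
  have hall : ∀ v ∈ centInv S, v ≠ 1 → v ≠ t → v ∈ O := by
    intro v hv hv1 hvt
    by_contra hvO
    have ha : f v ≠ f x₀ := fun h => hvO (hcl x₀ hx₀ hne v hv hv1 hvt h.symm)
    -- the orbit is `t` and one class, which has even size
    set a := f x₀
    have hOeq : ∀ y ∈ O, y ≠ t → f y = a := by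
      intro y hy hyt
      by_contra h
      refine hvO (hcl y hy hyt v hv hv1 hvt ?_)
      exact two_eq h ha
    let K : Subgroup G :=
      { carrier := {x | x ∈ centInv S ∧ f x = 0}
        one_mem' := ⟨one_mem _, by have := hfadd 1 (one_mem _) 1 (one_mem _); simpa using this⟩
        mul_mem' := fun {p q} hp hq => ⟨mul_mem hp.1 hq.1, by
          rw [hfadd p hp.1 q hq.1, hp.2, hq.2, add_zero]⟩
        inv_mem' := fun {p} hp => by
          rwa [inv_eq_of_mul_eq_one_left hp.1.2.1] }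
    have hK2 : Even (Nat.card K) := by
      obtain ⟨z, hzK, hz1⟩ : ∃ z ∈ K, z ≠ 1 := by
        by_cases h0 : f x₀ = 0
        · exact ⟨x₀, ⟨(hOW _ hx₀).1, h0⟩, (hOW _ hx₀).2⟩
        · refine ⟨t * x₀, ⟨mul_mem htW (hOW _ hx₀).1, ?_⟩, fun h => hne ?_⟩
          · rw [hfadd t htW x₀ (hOW _ hx₀).1, hft]
            rw [two_one h0, CharTwo.add_self_eq_zero]
          · rw [← one_mul x₀, ← centInv_sq htW, mul_assoc, h, mul_one]
      rw [even_iff_two_dvd, ← orderOf_eq_prime (p := 2) (x := (⟨z, hzK⟩ : K))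
        (Subtype.ext (by rw [SubgroupClass.coe_pow, pow_two]; exact hzK.1.2.1))
        (fun h => hz1 (congrArg Subtype.val h))]
      exact orderOf_dvd_natCard _
    have hOodd : Odd O.ncard := odd_conjugates R hodd t
    have hcard : O.ncard = Nat.card K := by
      rw [← SetLike.coe_sort_coe, Nat.card_coe_set_eq]
      by_cases h0 : a = 0
      · refine Set.ncard_congr (fun y _ => if y = t then 1 else y) ?_ ?_ ?_
        · intro y hy
          by_cases hyt : y = t
          · simp only [hyt, if_pos]; exact one_mem K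
          · simp only [hyt, if_false]; exact ⟨(hOW y hy).1, (hOeq y hy hyt).trans h0⟩
        · intro y y' hy hy' h
          by_cases hyt : y = t <;> by_cases hyt' : y' = t <;> simp only [hyt, hyt', if_pos, if_false] at h
          · rw [hyt, hyt']
          · exact absurd h.symm (hOW y' hy').2
          · exact absurd h (hOW y hy).2
          · exact h
        · intro z hz
          by_cases hz1 : z = 1
          · exact ⟨t, htO, by simp [hz1]⟩
          · have hzt : z ≠ t := fun h => by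
              have := hz.2
              rw [h, hft] at this
              exact one_ne_zero this
            exact ⟨z, hcl x₀ hx₀ hne z hz.1 hz1 hzt (h0.trans hz.2.symm), by simp [hzt]⟩
      · have h1 : a = 1 := two_one h0
        refine Set.ncard_congr (fun y _ => t * y) ?_ (fun y y' _ _ h => mul_left_cancel h) ?_
        · intro y hy
          refine ⟨mul_mem htW (hOW y hy).1, ?_⟩
          rw [hfadd t htW y (hOW y hy).1, hft]
          by_cases hyt : y = t
          · rw [hyt, hft, CharTwo.add_self_eq_zero]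
          · rw [hOeq y hy hyt, h1, CharTwo.add_self_eq_zero]
        · intro z hz
          refine ⟨t * z, ?_, by rw [← mul_assoc, centInv_sq htW, one_mul]⟩
          have hfz : f (t * z) = 1 := by rw [hfadd t htW z hz.1, hft, hz.2, add_zero]
          by_cases hzt : t * z = t
          · rw [hzt]; exact htO
          · refine hcl x₀ hx₀ hne _ (mul_mem htW hz.1) (fun h => ?_) hzt (h1.trans hfz.symm)
            have h2 := hfadd 1 (one_mem _) 1 (one_mem _)
            rw [h, ] at hfz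
            simp [hfz] at h2
    rw [hcard] at hOodd
    exact Nat.not_even_iff_odd.2 hOodd hK2
  intro v hv hv1
  have hvO : v ∈ O := if h : v = t then h ▸ htO else hall v hv hv1 h
  obtain ⟨r, hr, e⟩ := hvO
  exact ⟨r, hRN hr, e⟩

theorem card_centInv_le : Nat.card ↥(centInv S) ≤ 8 := by
  classical
  haveI := Fact.mk Nat.prime_two
  obtain ⟨f, hft, hfadd, hinv, hclass, htrans⟩ := exists_frame hG d hc
  choose! m hm hmt using htrans
  let P : G → G → Prop := fun v a => f ((m v)⁻¹ * a * m v) = 0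
  have hback : ∀ v ∈ centInv S, v ≠ 1 → ∀ a ∈ centInv S, (m v)⁻¹ * a * m v ∈ centInv S :=
    fun v hv hv1 a ha => by
      have h := conj_centInv (inv_mem (hm v hv hv1)) ha
      rwa [inv_inv] at h
  refine card_le_eight (centInv S) (fun a ha => centInv_sq ha) P (fun v hv hv1 a ha b hb => ?_)
    (fun v hv w hw hv1 hw1 hvw => ?_)
  · show f _ = 0 ↔ (f _ = 0 ↔ f _ = 0)
    rw [show (m v)⁻¹ * (a * b) * m v = ((m v)⁻¹ * a * m v) * ((m v)⁻¹ * b * m v) by group,
      hfadd _ (hback v hv hv1 a ha) _ (hback v hv hv1 b hb)]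
    exact two_add
  · show f ((m v)⁻¹ * w * m v) = 0 ↔ ¬ f ((m w)⁻¹ * v * m w) = 0
    set x := (m v)⁻¹ * w * m v with hx
    set y := (m w)⁻¹ * v * m w with hy
    have hx' : m v * x * (m v)⁻¹ = w := by rw [hx]; group
    have hy' : m w * y * (m w)⁻¹ = v := by rw [hy]; group
    have hxy : f x ≠ f y := by
      intro hf
      have hx1 : x ≠ 1 := fun h => hw1 (by rw [← hx', h]; group)
      have hxt : x ≠ t := fun h => hvw (by rw [← hx', h, hmt v hv hv1])
      have hy1 : y ≠ 1 := fun h => hv1 (by rw [← hy', h]; group)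
      have hyt : y ≠ t := fun h => hvw (by rw [← hy', h, hmt w hw hw1])
      obtain ⟨c, hcN, hct, hcxy⟩ := hclass x (hback v hv hv1 w hw) y (hback w hw hw1 v hv)
        hx1 hxt hy1 hyt hf
      obtain ⟨R, hRN, hodd, hR⟩ := exists_odd_part S
      obtain ⟨r, hr, hact, -⟩ := hR (m w * c * (m v)⁻¹)
        (mul_mem (mul_mem (hm w hw hw1) hcN) (inv_mem (hm v hv hv1)))
      have e1 : r * w * r⁻¹ = v := by
        calc r * w * r⁻¹ = m w * c * (m v)⁻¹ * w * (m w * c * (m v)⁻¹)⁻¹ := (hact w hw).symm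
          _ = m w * (c * x * c⁻¹) * (m w)⁻¹ := by rw [hx]; group
          _ = v := by rw [hcxy, hy']
      have e2 : r * v * r⁻¹ = w := by
        calc r * v * r⁻¹ = m w * c * (m v)⁻¹ * v * (m w * c * (m v)⁻¹)⁻¹ := (hact v hv).symm
          _ = m w * c * (m v)⁻¹ * (m v * t * (m v)⁻¹) * (m w * c * (m v)⁻¹)⁻¹ := by
            rw [hmt v hv hv1]
          _ = m w * (c * t * c⁻¹) * (m w)⁻¹ := by group
          _ = w := by rw [hct.eq, mul_inv_cancel_right, hmt w hw hw1]
      have e3 : Commute (r ^ 2) w := by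
        have h : r ^ 2 * w * (r ^ 2)⁻¹ = w :=
          calc r ^ 2 * w * (r ^ 2)⁻¹ = r * (r * w * r⁻¹) * r⁻¹ := by rw [pow_two]; group
            _ = w := by rw [e1, e2]
        exact mul_inv_eq_iff_eq_mul.1 h
      obtain ⟨j, hj⟩ : ∃ j : ℕ, (r ^ 2) ^ j = r := by
        have ho : Odd (orderOf r) := hodd.of_dvd_nat (by
          rw [← Subgroup.orderOf_mk r hr]; exact orderOf_dvd_natCard _)
        obtain ⟨i, hi⟩ := ho
        refine ⟨i + 1, ?_⟩
        rw [← pow_mul, show 2 * (i + 1) = orderOf r + 1 by omega, pow_succ, pow_orderOf_eq_one,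
          one_mul]
      have e4 : Commute r w := hj ▸ e3.pow_left j
      rw [e4.eq, mul_inv_cancel_right] at e1
      exact hvw e1.symm
    exact two_ne hxy

end Cfsg.Agent.CyclicSylowInter.Central
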